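import Groth.Agent.Lib.Cyc26B.Divisor

/-! # A corank one subbundle with trivial quotient is rationally trivial -/

set_option autoImplicit false
universe u

set_option backward.isDefEq.respectTransparency false
set_option backward.isDefEq.respectTransparency.types false

open CategoryTheory AlgebraicGeometry Opposite Limits TopologicalSpace
open scoped Classical

noncomputable section

namespace Groth.Agent.Cyc26B

open Groth.Agent.Cyc26

theorem delta_closed {A B : Scheme.{u}} (i : A ⟶ B) [IsClosedImmersion i] {δA : A → ℤ} {δB : B → ℤ}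
    (h : Cyc.DeltaCompat i δA δB) (z : A) : δB (i z) = δA z := by
  obtain ⟨n, hn, hn'⟩ := h z
  obtain ⟨m, hm, hm'⟩ := deltaCompat_closed i δB z
  have : n = m := by exact_mod_cast hn.symm.trans hm
  have hm0 : δB (i z) = δB (i z) + m := hm'
  omega

variable {X : Scheme.{u}} {δ : X → ℤ} {S : ShortComplex X.Modules} (e : S.X₁ ≅ Coh.structureModule X)
  {AE AF : RelSpec.QCAlg X} (jE : S.X₂ ⟶ AE.toModule) {jF : S.X₃ ⟶ AF.toModule} {φ : AE ⟶ AF}
  (hS : S.ShortExact) (hqE : Coh.IsQCoh S.X₂) (hqF : Coh.IsQCoh S.X₃)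
  (hE : FlatMod.IsFinLocFree S.X₂) (hF : FlatMod.IsFinLocFree S.X₃)
  (hφ : jE ≫ RelSpec.QCAlg.Hom.toModuleMap φ = S.g ≫ jF)
  (hAE : RelSpec.IsSymAlg S.X₂ AE jE) (hAF : RelSpec.IsSymAlg S.X₃ AF jF)

include e hS hqE hqF hE hF hφ hAE hAF in
theorem ratEquivZero_map_incl [QuasiCompact (RelSpec.QCAlg.specMap φ)] {δE : AE.spec → ℤ}
    (hEs : Cyc.IsSetup AE.spec δE) (hδE : Cyc.DeltaCompat AE.π δE δ) {δF : AF.spec → ℤ}
    (hFs : Cyc.IsSetup AF.spec δF) (hδF : Cyc.DeltaCompat AF.π δF δ) (k : ℤ)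
    (α : AlgebraicCycle AF.spec ℤ) (hα : α ∈ Cyc.Zk AF.spec δF k) :
    Cyc.RatEquivZero δE k (AlgebraicCycle.map (RelSpec.QCAlg.specMap φ) δF δE α) := by
  haveI := isClosedImmersion_incl jE hS hqE hqF hφ hAF
  haveI := hEs.1
  haveI := hFs.1
  haveI := fun y => isIntegral_fibre hqE hE hAE y
  haveI := fun y => isIntegral_fibre hqF hF hAF y
  set i := RelSpec.QCAlg.specMap φ with hi
  have hcompat : Cyc.DeltaCompat i δF δE :=
    Cyc26A.deltaCompat_of_comp i AE.π (RelSpec.QCAlg.specMap_π φ) hδF hδE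
  obtain ⟨c, hc, hsupp, hrat⟩ := exists_generic_rep_bundle hqF hF hAF hFs.2.2 k α hα
  have h1 := ratEquivZero_iff.1 (ratEquivZero_map i hFs.2.2 hEs.2.2 hcompat
    (γ := α - c) (k := k) (ratEquivZero_iff.2 hrat))
  rw [Cyc26.map_sub i δF δE α c] at h1
  have h2 := map_generic_ratFun e jE hS hqE hqF hφ hAE hAF hF hEs.2.2 hFs.2.2 (fun z => delta_closed i hcompat z)
    (fun _ _ h => fgen_specializes_fgen hqF hF hAF h) c hc hsupp
  exact (h1.add h2).ratEquivZero fun x => (sub_add_cancel (AlgebraicCycle.map i δF δE α x) _).symm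

end Groth.Agent.Cyc26B
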