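import Groth.Agent.Lib.Cyc26B.ScaleMap
import Groth.Agent.Lib.Cyc26B.CorankOne
import Groth.Agent.Lib.Cyc26.C1Gys
import Groth.Agent.S6474

/-! # Pull-back to an affine bundle is injective on Chow groups -/

set_option autoImplicit false
universe u

set_option backward.isDefEq.respectTransparency false
set_option backward.isDefEq.respectTransparency.types false

open CategoryTheory AlgebraicGeometry Opposite Limits TopologicalSpace

noncomputable section

namespace Groth.Agent.Cyc26B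

open Groth.Agent.Cyc26 Groth.Agent.Cyc26A

variable {X : Scheme.{u}}

theorem affFibres_of_rank {M : X.Modules} {A : RelSpec.QCAlg X} {j : M ⟶ A.toModule} {n : ℕ}
    (hq : Coh.IsQCoh M) (hM : FlatMod.IsFinLocFreeOfRank n M) (hA : RelSpec.IsSymAlg M A j) :
    AffFibres A.π n := fun y => by
  obtain ⟨U, hy, ⟨i⟩⟩ := hM y
  obtain ⟨W, hW, hyW, hWU⟩ := exists_isAffineOpen_mem_and_subset (U := U) (x := y) hy
  obtain ⟨b⟩ := RankStratum13.exists_basis_of_freeMod hq i hW hWU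
  obtain ⟨t, ht⟩ := exists_chartSquare hq hA hW b
  have hr : Set.range (X.fromSpecResidueField y) ⊆ Set.range hW.fromSpec := by
    rw [Scheme.range_fromSpecResidueField, IsAffineOpen.range_fromSpec, Set.singleton_subset_iff]
    exact hyW
  let g := IsOpenImmersion.lift hW.fromSpec (X.fromSpecResidueField y) hr
  have h2 := (AffineSpace.isPullback_map (n := ULift.{u} (Fin n)) g).paste_horiz ht
  rw [IsOpenImmersion.lift_fac] at h2
  exact ⟨X.residueField y, inferInstance, ⟨h2.isoPullback.symm ≪≫ AffineSpace.SpecIso _ _ ≪≫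
    Scheme.Spec.mapIso (MvPolynomial.renameEquiv (X.residueField y)
      (Equiv.ulift (α := Fin n)).symm).toRingEquiv.toCommRingCatIso.op⟩⟩

variable {δ : X → ℤ} {S : ShortComplex X.Modules} (hS : S.ShortExact) (e : S.X₁ ≅ Coh.structureModule X) {n : ℕ}
  (hqE : Coh.IsQCoh S.X₂) (hE : FlatMod.IsFinLocFreeOfRank (n + 1) S.X₂)
  (hqF : Coh.IsQCoh S.X₃) (hF : FlatMod.IsFinLocFreeOfRank n S.X₃)
  {AE : RelSpec.QCAlg X} {jE : S.X₂ ⟶ AE.toModule} (hAE : RelSpec.IsSymAlg S.X₂ AE jE)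
  {A1 : RelSpec.QCAlg X} {j1 : Coh.structureModule X ⟶ A1.toModule}
  (hA1 : RelSpec.IsSymAlg (Coh.structureModule X) A1 j1)
  {ψ : A1 ⟶ AE} (hψ : j1 ≫ RelSpec.QCAlg.Hom.toModuleMap ψ = e.inv ≫ S.f ≫ jE)
  {u : Coh.structureModule X ⟶ (RelSpec.QCAlg.unit X).toModule} [IsIso u]
  {ε : A1 ⟶ RelSpec.QCAlg.unit X} (hε : j1 ≫ RelSpec.QCAlg.Hom.toModuleMap ε = u)

include hS hqE hE hqF hF hAE hA1 hψ hε in
theorem ratEquivZero_of_pullFun_affine (hX : Cyc.IsSetup X δ)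
    {δB : ↥(pullback (RelSpec.QCAlg.specMap ψ) (RelSpec.QCAlg.specMap ε)) → ℤ}
    (hBs : Cyc.IsSetup (pullback (RelSpec.QCAlg.specMap ψ) (RelSpec.QCAlg.specMap ε)) δB)
    (hδB : Cyc.DeltaCompat (pullback.fst (RelSpec.QCAlg.specMap ψ) (RelSpec.QCAlg.specMap ε) ≫ AE.π) δB δ)
    (k : ℤ) (α : AlgebraicCycle X ℤ) (hα : α ∈ Cyc.Zk X δ k)
    (γ : AlgebraicCycle (pullback (RelSpec.QCAlg.specMap ψ) (RelSpec.QCAlg.specMap ε)) ℤ)
    (hγ : ⇑γ = Cyc.pullFun (pullback.fst (RelSpec.QCAlg.specMap ψ) (RelSpec.QCAlg.specMap ε) ≫ AE.π) δB δ n ⇑α)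
    (h0 : Cyc.RatEquivZero δB (k + n) γ) : Cyc.RatEquivZero δ k α := by
  classical
  haveI := hX.1
  haveI := hBs.1
  have hE' := M2.isFinLocFree_of_ofRank hE
  have hF' := M2.isFinLocFree_of_ofRank hF
  let AF := SymAlg11.symQC hqF
  let jF : S.X₃ ⟶ AF.toModule := SymAlg11.symGen hqF
  have hAF : RelSpec.IsSymAlg S.X₃ AF jF := SymAlg11.isSymAlg_symQC hqF
  obtain ⟨φ, hφ, -⟩ := hAE AF (S.g ≫ jF)
  haveI := isClosedImmersion_incl jE hS hqE hqF hφ hAF
  haveI := fun y => isIntegral_fibre hqE hE' hAE y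
  haveI := fun y => isIntegral_fibre hqF hF' hAF y
  obtain ⟨hflE, hlftE⟩ := flat_lft hqE hE' hAE
  obtain ⟨-, hlftF⟩ := flat_lft hqF hF' hAF
  obtain ⟨δE, hδE⟩ := P1S26.exists_deltaCompat AE.π δ
  have hEs := Cyc26Split.isSetup_of_lft AE.π hX hδE
  haveI := hEs.1
  obtain ⟨δF, hδF⟩ := P1S26.exists_deltaCompat AF.π δ
  have hFs := Cyc26Split.isSetup_of_lft AF.π hX hδF
  haveI := hFs.1
  have hshE : Shift AE.π δE δ ((n + 1 : ℕ) : ℤ) := fun z hz =>
    shift_of_hasRelDim AE.π (affFibres_of_rank hqE hE hAE).hasRelDim hδE z hz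
  -- the complement of the subbundle
  let δ0 : ↥((off e jE).toScheme) → ℤ := fun z => δE ((off e jE).ι z)
  have hδι : Cyc.DeltaCompat (off e jE).ι δ0 δE := fun z =>
    ⟨0, by rw [Nat.cast_zero]; exact FibDim14.rdeg_eq_zero (off e jE).ι z, (add_zero _).symm⟩
  have h0s := Cyc26Split.isSetup_of_lft (off e jE).ι hEs hδι
  haveI := h0s.1
  obtain ⟨r, hlft, hr, hflat, hsurj, hrd⟩ := exists_scaleMap e jE j1 hA1 ψ hψ u ε hε hAE hqE
  set φB := pullback.fst (RelSpec.QCAlg.specMap ψ) (RelSpec.QCAlg.specMap ε) ≫ AE.π with hφB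
  have hδr : Cyc.DeltaCompat r δ0 δB := deltaCompat_of_comp r φB hr (deltaCompat_comp _ _ hδι hδE) hδB
  have hshr : Shift r δ0 δB 1 := fun z hz => by
    rw [UCat26.delta_eq_add_rd r hδr z, hrd z hz, Nat.cast_one]
  have hshB : Shift φB δB δ (n : ℤ) := fun y hy => by
    obtain ⟨z, rfl⟩ := hsurj y
    have hqz : AE.π ((off e jE).ι z) = φB (r z) := by
      rw [← Scheme.Hom.comp_apply, ← Scheme.Hom.comp_apply]
      exact congrArg (fun f => f z) hr.symm
    have hoff : fgen AE.π (φB (r z)) ∈ off e jE := by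
      refine (AE.spec.mem_basicOpen (tGlob e jE) _ trivial).2 ?_
      exact isUnit_germ_tGlob e jE hS hqE hqF hφ hAE hAF
        (fgen_off_range e jE hS hqE hqF hφ hAE hAF hF' _)
    let x0 : ↥((off e jE).toScheme) := ⟨_, hoff⟩
    have hx0z : x0 ⤳ z := (off e jE).ι.isOpenEmbedding.isInducing.specializes_iff.1 (fgen_specializes AE.π hqz)
    have hqx0 : φB (r x0) = φB (r z) := by
      refine ((congrArg (fun f => f x0) hr :) : φB (r x0) = AE.π ((off e jE).ι x0)).trans ?_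
      exact apply_fgen AE.π _
    have hrx : r x0 = r z := hy _ hqx0 (hx0z.map r.continuous)
    have hmaxE : ∀ w, AE.π w = AE.π (fgen AE.π (φB (r z))) → w ⤳ fgen AE.π (φB (r z)) →
        w = fgen AE.π (φB (r z)) := fun w hw hsp =>
      (hsp.antisymm (fgen_specializes AE.π (hw.trans (apply_fgen AE.π _)))).eq
    have hmax0 : ∀ w, r w = r x0 → w ⤳ x0 → w = x0 := fun w hw hsp => by
      refine (off e jE).ι.isOpenEmbedding.injective (hmaxE _ ?_ (hsp.map (off e jE).ι.continuous))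
      rw [apply_fgen]
      exact ((congrArg (fun f => f w) hr).symm :).trans ((congrArg φB hw).trans (congrArg φB hrx))
    have e1 := hshr x0 hmax0
    have e2 := hshE _ hmaxE
    rw [apply_fgen] at e2
    rw [hrx] at e1
    have : δ0 x0 = δE (fgen AE.π (φB (r z))) := rfl
    push_cast at e2
    omega
  -- pull back to the complement
  let γE := pullCycle AE.π hEs.2.2 hshE α
  have hγE : ⇑γE = Cyc.pullFun AE.π δE δ ((n + 1 : ℕ) : ℤ) ⇑α := pullCycle_coe _ _ _ _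
  let γ0 := pullCycle r h0s.2.2 hshr γ
  have hγ0 : ∀ z, γ0 z = γE ((off e jE).ι z) := fun z => by
    rw [pullCycle_coe, hγ, hγE]
    have h1 := (pullFun_comp_shift r φB h0s.2.2 hBs.2.2 hshB hshr ⇑α).2
    have h2 := (pullFun_comp_shift (off e jE).ι AE.π h0s.2.2 hEs.2.2 hshE
      (c' := 0) (fun w _ => (add_zero _).symm) ⇑α).2
    rw [← h1]
    simp only [hr]
    rw [show ((n : ℤ) + 1) = ((n + 1 : ℕ) : ℤ) + 0 by push_cast; ring, h2,
      S6474.pullFun_openImmersion (off e jE).ι (δY := δ0) (fun _ => rfl)]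
  have h0' := ratEquivZero_pullFun r h0s.2.2 hBs.2.2 hshr h0 γ0 (pullCycle_coe _ _ _ _)
  rw [show k + (n : ℤ) + 1 = k + ((n + 1 : ℕ) : ℤ) by push_cast; ring] at h0'
  obtain ⟨c, hc0, hcγ, hcZ⟩ := Cyc26.exists_extension hEs.2.2 (off e jE) h0'
  have hγZ : γE ∈ Cyc.Zk AE.spec δE (k + ((n + 1 : ℕ) : ℤ)) := fun x hx => by
    rw [hγE]
    simp only [Cyc.pullFun]
    split_ifs with h
    · rw [hα (AE.π x) (fun h' => hx (by rw [h, h'])), zero_mul]
    · rfl
  obtain ⟨cF, hcF⟩ := Cyc26.exists_cycle_restrict (RelSpec.QCAlg.specMap φ) (γE - c)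
  have hcompat : Cyc.DeltaCompat (RelSpec.QCAlg.specMap φ) δF δE :=
    deltaCompat_of_comp _ AE.π (RelSpec.QCAlg.specMap_π φ) hδF hδE
  have hδi := fun z => delta_closed (RelSpec.QCAlg.specMap φ) hcompat z
  have hcFZ : cF ∈ Cyc.Zk AF.spec δF (k + ((n + 1 : ℕ) : ℤ)) := fun z hz => by
    rw [hcF]
    show γE _ - c _ = 0
    rw [hγZ _ (by rw [hδi]; exact hz), hcZ _ (by rw [hδi]; exact hz), sub_zero]
  have hmain := ratEquivZero_map_incl e jE hS hqE hqF hE' hF' hφ hAE hAF hEs hδE hFs hδF _ cF hcFZ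
  obtain ⟨hm1, hm2⟩ := map_closed_apply (RelSpec.QCAlg.specMap φ) hδi cF
  have hmap : ∀ x, γE x - c x = AlgebraicCycle.map (RelSpec.QCAlg.specMap φ) δF δE cF x := fun x => by
    by_cases hx : x ∈ Set.range (RelSpec.QCAlg.specMap φ)
    · obtain ⟨z, rfl⟩ := hx
      rw [hm1, hcF]
      rfl
    · rw [hm2 x hx]
      have hmem : x ∈ off e jE :=
        (AE.spec.mem_basicOpen (tGlob e jE) _ trivial).2 (isUnit_germ_tGlob e jE hS hqE hqF hφ hAE hAF hx)
      have h1 := hcγ ⟨x, hmem⟩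
      have h2 := hγ0 ⟨x, hmem⟩
      show γE x - c x = 0
      rw [show c x = γ0 ⟨x, hmem⟩ from h1, h2]
      exact sub_self _
  have hγE0 : Cyc.RatEquivZero δE (k + ((n + 1 : ℕ) : ℤ)) γE :=
    ((ratEquivZero_iff.1 hc0).add (ratEquivZero_iff.1 hmain)).ratEquivZero fun x => by
      have := hmap x
      omega
  exact S6474.result X δ hX S.X₂ hqE (n + 1) hE AE jE hAE δE hEs hδE k α hα γE hγE hγE0

end Groth.Agent.Cyc26B
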