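import Groth.Agent.Lib.Cyc26B.GenRep
import Groth.Agent.Lib.SymAlg11.Sheaf
import Groth.Agent.Lib.SymAlg11.Spec
import Groth.Agent.Lib.RankStratum13.Basic
import Mathlib.LinearAlgebra.SymmetricAlgebra.Basis

/-! # Total spaces of locally free modules: charts, flatness and fibres -/

set_option autoImplicit false
universe u

set_option backward.isDefEq.respectTransparency false
set_option backward.isDefEq.respectTransparency.types false

open CategoryTheory AlgebraicGeometry Opposite Limits TopologicalSpace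

noncomputable section

namespace Groth.Agent.Cyc26B

open Groth.Agent.Cyc26

variable {X : Scheme.{u}} {M : X.Modules} {A : RelSpec.QCAlg X} {j : M ⟶ A.toModule}
  (hq : Coh.IsQCoh M) (hM : FlatMod.IsFinLocFree M) (hA : RelSpec.IsSymAlg M A j)

include hq hM in
theorem exists_basis (y : X) : ∃ (W : X.Opens) (_ : IsAffineOpen W) (n : ℕ), y ∈ W ∧
    Nonempty (Module.Basis (ULift.{u} (Fin n)) Γ(X, W) Γ(M, W)) := by
  obtain ⟨U, n, hy, ⟨e⟩⟩ := hM y
  obtain ⟨W, hW, hyW, hWU⟩ := exists_isAffineOpen_mem_and_subset (U := U) (x := y) hy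
  exact ⟨W, hW, n, hyW, RankStratum13.exists_basis_of_freeMod hq e hW hWU⟩

include hq hA in
/-- The chart over an affine open with a basis is an affine space. -/
theorem exists_chartIso {W : X.Opens} (hW : IsAffineOpen W) {n : Type u}
    (b : Module.Basis n Γ(X, W) Γ(M, W)) :
    ∃ e : 𝔸(n; Spec Γ(X, W)) ≅ Spec (A.presheaf.obj (op W)),
      e.hom ≫ Spec.map (A.str.app (op W)) = 𝔸(n; Spec Γ(X, W)) ↘ Spec Γ(X, W) := by
  let L : SymAlg11.SymOn M W ≃+* A.presheaf.obj (op W) :=
    RingEquiv.ofBijective _ (SymAlg11.bijective_liftOn hq hA W hW)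
  let ρ : A.presheaf.obj (op W) ≃+* MvPolynomial n Γ(X, W) :=
    L.symm.trans (SymmetricAlgebra.equivMvPolynomial b).toRingEquiv
  have hρ : ∀ r, ρ ((A.str.app (op W)).hom r) = MvPolynomial.C r := fun r => by
    show (SymmetricAlgebra.equivMvPolynomial b) (L.symm _) = _
    rw [← SymAlg11.liftOn_algebraMap A j W r, show SymAlg11.liftOn A j W _ = L _ from rfl, L.symm_apply_apply,
      AlgEquiv.commutes, MvPolynomial.algebraMap_eq]
  let i : Spec (CommRingCat.of (MvPolynomial n Γ(X, W))) ≅ Spec (A.presheaf.obj (op W)) :=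
    Scheme.Spec.mapIso ρ.toCommRingCatIso.op
  refine ⟨AffineSpace.SpecIso n Γ(X, W) ≪≫ i, ?_⟩
  rw [Iso.trans_hom, Category.assoc, ← cancel_epi (AffineSpace.SpecIso n Γ(X, W)).inv,
    Iso.inv_hom_id_assoc, AffineSpace.SpecIso_inv_over]
  show Spec.map _ ≫ Spec.map _ = _
  rw [← Spec.map_comp]
  congr 1
  exact CommRingCat.hom_ext (RingHom.ext hρ)

include hq hA in
theorem exists_chartSquare {W : X.Opens} (hW : IsAffineOpen W) {n : Type u}
    (b : Module.Basis n Γ(X, W) Γ(M, W)) :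
    ∃ t : 𝔸(n; Spec Γ(X, W)) ⟶ A.spec,
      IsPullback t (𝔸(n; Spec Γ(X, W)) ↘ Spec Γ(X, W)) A.π hW.fromSpec := by
  obtain ⟨e, he⟩ := exists_chartIso hq hA hW b
  exact ⟨e.hom ≫ A.ι W hW, IsPullback.of_iso (SymAlg11.isPullback_ι_π A W hW) e.symm (Iso.refl _) (Iso.refl _)
    (Iso.refl _) (by simp) (by simp [← he]) (by simp) (by simp)⟩

include hq hM hA in
theorem fibre_polySpec (y : X) :
    ∃ (n : ℕ) (K : Type u) (_ : Field K), Nonempty (A.π.fiber y ≅ PolySpec n K) := by
  obtain ⟨W, hW, n, hy, ⟨b⟩⟩ := exists_basis hq hM y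
  obtain ⟨t, ht⟩ := exists_chartSquare hq hA hW b
  have hr : Set.range (X.fromSpecResidueField y) ⊆ Set.range hW.fromSpec := by
    rw [Scheme.range_fromSpecResidueField, IsAffineOpen.range_fromSpec, Set.singleton_subset_iff]
    exact hy
  let g := IsOpenImmersion.lift hW.fromSpec (X.fromSpecResidueField y) hr
  have h2 := (AffineSpace.isPullback_map (n := ULift.{u} (Fin n)) g).paste_horiz ht
  rw [IsOpenImmersion.lift_fac] at h2
  exact ⟨n, X.residueField y, inferInstance, ⟨h2.isoPullback.symm ≪≫ AffineSpace.SpecIso _ _ ≪≫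
    Scheme.Spec.mapIso (MvPolynomial.renameEquiv (X.residueField y)
      (Equiv.ulift (α := Fin n)).symm).toRingEquiv.toCommRingCatIso.op⟩⟩

include hq hM hA in
theorem isIntegral_fibre (y : X) : IsIntegral (A.π.fiber y) := by
  obtain ⟨n, K, _, ⟨e⟩⟩ := fibre_polySpec hq hM hA y
  haveI : Nonempty (A.π.fiber y) := ⟨e.inv (genericPoint (PolySpec n K))⟩
  exact isIntegral_of_isOpenImmersion e.hom

include hq hM hA in
theorem flat_lft : Flat A.π ∧ LocallyOfFiniteType A.π := by
  choose W hW n hy hb using exists_basis hq hM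
  have key : ∀ (P : MorphismProperty Scheme.{u}) [IsZariskiLocalAtTarget P],
      (∀ y, P (𝔸(ULift.{u} (Fin (n y)); Spec Γ(X, W y)) ↘ Spec Γ(X, W y))) → P A.π := by
    intro P _ hP
    let 𝒰 : X.OpenCover := Scheme.Cover.mkOfCovers X (fun y => Spec Γ(X, W y)) (fun y => (hW y).fromSpec)
      fun y => ⟨y, ((hW y).range_fromSpec ▸ hy y : y ∈ Set.range (hW y).fromSpec)⟩
    refine IsZariskiLocalAtTarget.of_openCover 𝒰 fun y => ?_
    obtain ⟨b⟩ := hb y
    obtain ⟨t, ht⟩ := exists_chartSquare hq hA (hW y) b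
    show P (pullback.snd A.π (hW y).fromSpec)
    rw [← ht.isoPullback_inv_snd]
    exact MorphismProperty.RespectsIso.precomp P ht.isoPullback.inv _ (hP y)
  refine ⟨key @Flat fun y => ?_, key @LocallyOfFiniteType fun y => inferInstance⟩
  rw [← (AffineSpace.SpecIso _ _).hom_inv_id_assoc (𝔸(ULift.{u} (Fin (n y)); Spec Γ(X, W y)) ↘ Spec Γ(X, W y)),
    AffineSpace.SpecIso_inv_over]
  refine MorphismProperty.RespectsIso.precomp @Flat _ _ ?_
  exact (HasRingHomProperty.Spec_iff (P := @Flat)).2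
    (by rw [CommRingCat.hom_ofHom, ← MvPolynomial.algebraMap_eq, RingHom.flat_algebraMap_iff]; infer_instance)

variable [∀ y, IsIntegral (A.π.fiber y)]

include hq hM hA in
theorem fgen_specializes_fgen {y y' : X} (h : y ⤳ y') : fgen A.π y ⤳ fgen A.π y' := by
  haveI := (flat_lft hq hM hA).1
  obtain ⟨w, hw, hwy⟩ := Flat.generalizingMap A.π (show y ⤳ A.π (fgen A.π y') by rwa [apply_fgen])
  exact (fgen_specializes A.π hwy).trans hw

include hq hM hA in
theorem ptRat_fibre {δ : A.spec → ℤ} (hd : Cyc.IsDimFun A.spec δ) (y : X) (v : A.π.fiber y)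
    (hv : v ≠ genericPoint (A.π.fiber y)) : PtRat (fun z => δ (A.π.fiberι y z)) v := by
  obtain ⟨n, K, _, ⟨e⟩⟩ := fibre_polySpec hq hM hA y
  exact (cellLike_polySpec K n).of_iso e.symm _ (isDimFun_fiber A.π y hd) v hv

include hq hM hA in
/-- Cycles on a vector bundle are rationally equivalent to cycles supported on generic points of fibres. -/
theorem exists_generic_rep_bundle [IsLocallyNoetherian A.spec] {δ : A.spec → ℤ} (hd : Cyc.IsDimFun A.spec δ)
    (k : ℤ) (β : AlgebraicCycle A.spec ℤ) (hβ : β ∈ Cyc.Zk A.spec δ k) :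
    ∃ c : AlgebraicCycle A.spec ℤ, c ∈ Cyc.Zk A.spec δ k ∧ (∀ x, c x ≠ 0 → x = fgen A.π (A.π x)) ∧
      RatFun δ k Set.univ fun x => β x - c x :=
  exists_generic_rep A.π hd (fun _ _ h => fgen_specializes_fgen hq hM hA h) (ptRat_fibre hq hM hA hd) k β hβ

end Groth.Agent.Cyc26B
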