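import Groth.Agent.Lib.Cyc26B.Incl
import Groth.Agent.Lib.Cyc26.PushRat
import Groth.Agent.Lib.Cyc26.ClosedSetup
import Groth.Agent.Lib.Cyc26.ChernFun

/-! # The divisor of the coordinate on the closure of a fibre of a vector bundle -/

set_option autoImplicit false
universe u

set_option backward.isDefEq.respectTransparency false
set_option backward.isDefEq.respectTransparency.types false

open CategoryTheory AlgebraicGeometry Opposite Limits TopologicalSpace IsLocalRing
open scoped Classical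

noncomputable section

namespace Groth.Agent.Cyc26B

open Groth.Agent.Cyc26

section general

variable {A B C : Scheme.{u}}

theorem stalkSpecializes_mem_maximalIdeal {a b : C} (he : a = b) (h : a ⤳ b) {c : C.presheaf.stalk b}
    (hc : c ∈ maximalIdeal (C.presheaf.stalk b)) :
    C.presheaf.stalkSpecializes h c ∈ maximalIdeal (C.presheaf.stalk a) := by
  subst he
  rw [show C.presheaf.stalkSpecializes h = 𝟙 _ from TopCat.Presheaf.stalkSpecializes_refl C.presheaf _]
  exact hc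

theorem maximalIdeal_le_sup (i : A ⟶ B) [IsClosedImmersion i] (p : B ⟶ C) {q : A ⟶ C} (hq : i ≫ p = q) (z : A)
    (hmax : Ideal.map (q.stalkMap z).hom (maximalIdeal (C.presheaf.stalk (q z))) = maximalIdeal (A.presheaf.stalk z))
    {t : B.presheaf.stalk (i z)} (hker : RingHom.ker (i.stalkMap z).hom = Ideal.span {t})
    {ξ : B} (h : ξ ⤳ i z) (hξ : p ξ = q z) :
    maximalIdeal (B.presheaf.stalk (i z)) ≤ Ideal.span {t} ⊔ RingHom.ker (Cyc.specMap (i z) ξ h) := by
  subst hq
  intro a ha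
  have hloc : (i.stalkMap z).hom a ∈ maximalIdeal (A.presheaf.stalk z) := map_nonunit (i.stalkMap z).hom a ha
  rw [← hmax, show ((i ≫ p).stalkMap z).hom = (i.stalkMap z).hom.comp (p.stalkMap (i z)).hom by
    rw [Scheme.Hom.stalkMap_comp]; rfl, ← Ideal.map_map] at hloc
  obtain ⟨b, hb, hab⟩ :=
    (Ideal.mem_map_iff_of_surjective (i.stalkMap z).hom (i.stalkMap_surjective z)).1 hloc
  have h1 : a - b ∈ Ideal.span {t} := by
    rw [← hker, RingHom.mem_ker, _root_.map_sub, hab, sub_self]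
  have h2 : b ∈ RingHom.ker (Cyc.specMap (i z) ξ h) := by
    refine (Ideal.map_le_iff_le_comap.2 fun (c : C.presheaf.stalk (p (i z))) hc => ?_) hb
    show B.residue ξ (B.presheaf.stalkSpecializes h (p.stalkMap (i z) c)) = 0
    rw [← Scheme.Hom.stalkSpecializes_stalkMap_apply p ξ (i z) h c, residue_eq_zero]
    exact map_nonunit (p.stalkMap ξ).hom _
      (stalkSpecializes_mem_maximalIdeal hξ (h.map p.continuous) hc)
  rw [← sub_add_cancel a b]
  exact Submodule.add_mem_sup h1 h2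

theorem delta_and_ord [IsLocallyNoetherian B] {δ : B → ℤ} (hd : Cyc.IsDimFun B δ) {x ξ : B} (h : ξ ⤳ x)
    (hne : ξ ≠ x) {t : B.presheaf.stalk x} (ht : Cyc.specMap x ξ h t ≠ 0)
    (hmem : t ∈ maximalIdeal (B.presheaf.stalk x))
    (hm : maximalIdeal (B.presheaf.stalk x) ≤ Ideal.span {t} ⊔ RingHom.ker (Cyc.specMap x ξ h)) :
    δ x + 1 = δ ξ ∧ Cyc.ordAt x ξ h (Cyc.specMap x ξ h t) = 1 := by
  haveI := noetherian_locQuot h
  haveI := isFractionRing_locQuot h
  let R := Cyc.LocQuot x ξ h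
  let tb : R := Ideal.Quotient.mk _ t
  have htb : tb ≠ 0 := fun e => ht (Ideal.Quotient.eq_zero_iff_mem.1 e)
  have hmax : maximalIdeal R = Ideal.span {tb} := by
    refine le_antisymm (fun r hr => ?_) (Ideal.span_le.2 (Set.singleton_subset_iff.2 ?_))
    · obtain ⟨a, rfl⟩ := Ideal.Quotient.mk_surjective r
      have ha : a ∈ maximalIdeal (B.presheaf.stalk x) := fun hu => hr (hu.map _)
      obtain ⟨u, hu, v, hv, rfl⟩ := Submodule.mem_sup.1 (hm ha)
      rw [map_add, Ideal.Quotient.eq_zero_iff_mem.2 hv, add_zero]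
      obtain ⟨c, rfl⟩ := Ideal.mem_span_singleton'.1 hu
      exact Ideal.mem_span_singleton'.2 ⟨_, (map_mul (Ideal.Quotient.mk _) c t).symm⟩
    · refine fun hu => ?_
      obtain ⟨w, hw⟩ := hu.exists_right_inv
      obtain ⟨w, rfl⟩ := Ideal.Quotient.mk_surjective w
      rw [← map_mul, ← map_one (Ideal.Quotient.mk _), Ideal.Quotient.eq] at hw
      have h1 : t * w - 1 ∈ maximalIdeal (B.presheaf.stalk x) :=
        le_maximalIdeal (Ideal.IsPrime.ne_top (inferInstance : (RingHom.ker (Cyc.specMap x ξ h)).IsPrime)) hw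
      have h2 : (1 : B.presheaf.stalk x) ∈ maximalIdeal (B.presheaf.stalk x) := by
        have := sub_mem (Ideal.mul_mem_right w _ hmem) h1
        rwa [sub_sub_cancel] at this
      exact (maximalIdeal.isMaximal _).ne_top ((Ideal.eq_top_iff_one _).2 h2)
  have hdim : ringKrullDim R ≤ 1 := (ringKrullDim_le_spanFinrank_maximalIdeal R).trans (by
    rw [hmax]; exact_mod_cast le_of_eq (Submodule.spanFinrank_singleton htb))
  have hlt := (hd ξ x h hne).1
  have hδ : δ x + 1 = δ ξ := by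
    rw [UCat26.ringKrullDim_locQuot hd ξ x h] at hdim
    have : (δ ξ - δ x).toNat ≤ 1 := by exact_mod_cast hdim
    omega
  refine ⟨hδ, ?_⟩
  have h1 : Module.length R (R ⧸ Ideal.span {tb}) = 1 := by
    rw [Module.length_eq_one_iff, isSimpleModule_iff_isCoatom, ← hmax]
    exact Ideal.isMaximal_def.1 (maximalIdeal.isMaximal R)
  show CycAlg.ordFrac R (B.residueField ξ) (algebraMap R (B.residueField ξ) tb) = 1
  rw [(Lattice26.ordFrac_algebraMap (K := B.residueField ξ) hdim htb).1, h1]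
  rfl

theorem map_closed_apply [IsLocallyNoetherian A] (i : A ⟶ B) [IsClosedImmersion i] {δA : A → ℤ} {δB : B → ℤ}
    (hδ : ∀ z, δB (i z) = δA z) (c : AlgebraicCycle A ℤ) :
    (∀ z, AlgebraicCycle.map i δA δB c (i z) = c z) ∧
      ∀ x ∉ Set.range i, AlgebraicCycle.map i δA δB c x = 0 := by
  constructor
  · intro z
    rw [map_apply_eq_sum i δA δB c (i z) {z} (by simp)
      (fun w hw _ _ => Finset.mem_singleton.2 (i.isClosedEmbedding.injective hw)), Finset.sum_singleton,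
      AlgebraicCycle.mapCoeff, if_pos (hδ z).symm, residueDegree_of_bijective i z (residueFieldMap_bijective i z),
      Nat.cast_one, mul_one]
  · intro x hx
    rw [map_apply_eq_sum i δA δB c x ∅ (by simp) (fun w hw _ _ => (hx ⟨w, hw⟩).elim), Finset.sum_empty]

end general

variable {X : Scheme.{u}} {S : ShortComplex X.Modules} (e : S.X₁ ≅ Coh.structureModule X)
  {AE AF : RelSpec.QCAlg X} (jE : S.X₂ ⟶ AE.toModule) {jF : S.X₃ ⟶ AF.toModule} {φ : AE ⟶ AF}
  (hS : S.ShortExact) (hqE : Coh.IsQCoh S.X₂) (hqF : Coh.IsQCoh S.X₃)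
  (hφ : jE ≫ RelSpec.QCAlg.Hom.toModuleMap φ = S.g ≫ jF)
  (hAE : RelSpec.IsSymAlg S.X₂ AE jE) (hAF : RelSpec.IsSymAlg S.X₃ AF jF) (hF : FlatMod.IsFinLocFree S.X₃)
  [∀ y, IsIntegral (AE.π.fiber y)] [∀ y, IsIntegral (AF.π.fiber y)]

/-- The coordinate as a function at a point. -/
def tRes (x : AE.spec) : AE.spec.residueField x :=
  AE.spec.residue x ((AE.spec.presheaf.germ ⊤ x trivial).hom (tGlob e jE))

theorem specMap_germ_tGlob {x ξ : AE.spec} (h : ξ ⤳ x) :
    Cyc.specMap x ξ h ((AE.spec.presheaf.germ ⊤ x trivial).hom (tGlob e jE)) = tRes e jE ξ :=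
  congrArg (AE.spec.residue ξ)
    (TopCat.Presheaf.germ_stalkSpecializes_apply AE.spec.presheaf (show x ∈ (⊤ : AE.spec.Opens) from trivial) h (tGlob e jE))

include e hS hqE hqF hφ hAE hAF hF in
theorem fgen_off_range (y : X) : fgen AE.π y ∉ Set.range (RelSpec.QCAlg.specMap φ) := by
  haveI := isClosedImmersion_incl jE hS hqE hqF hφ hAF
  obtain ⟨x, hxy, hx⟩ := exists_off_range e jE hS hqE hqF hφ hAE hAF hF y
  exact fun h => hx ((fgen_specializes AE.π hxy).mem_closed
    (RelSpec.QCAlg.specMap φ).isClosedEmbedding.isClosed_range h)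

include hS hqE hqF hφ hAE hAF hF in
theorem tRes_fgen_ne_zero (y : X) : tRes e jE (fgen AE.π y) ≠ 0 :=
  ((isUnit_germ_tGlob e jE hS hqE hqF hφ hAE hAF (fgen_off_range e jE hS hqE hqF hφ hAE hAF hF y)).map
    (AE.spec.residue _).hom).ne_zero

theorem fgen_spec_incl (y : X) :
    fgen AE.π y ⤳ RelSpec.QCAlg.specMap φ (fgen AF.π y) :=
  fgen_specializes AE.π (by rw [← Scheme.Hom.comp_apply, RelSpec.QCAlg.specMap_π, apply_fgen])

include e hS hqE hqF hφ hAE hAF hF in
theorem delta_ord_fgen [IsLocallyNoetherian AE.spec] {δE : AE.spec → ℤ} (hd : Cyc.IsDimFun AE.spec δE) (y : X) :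
    δE (RelSpec.QCAlg.specMap φ (fgen AF.π y)) + 1 = δE (fgen AE.π y) ∧
      Cyc.ordAt _ _ (fgen_spec_incl (φ := φ) y) (tRes e jE (fgen AE.π y)) = 1 := by
  haveI := isClosedImmersion_incl jE hS hqE hqF hφ hAF
  have hne : fgen AE.π y ≠ RelSpec.QCAlg.specMap φ (fgen AF.π y) := fun h =>
    fgen_off_range e jE hS hqE hqF hφ hAE hAF hF y ⟨_, h.symm⟩
  have hmax : Ideal.map (AF.π.stalkMap (fgen AF.π y)).hom
      (maximalIdeal (X.presheaf.stalk (AF.π (fgen AF.π y)))) = maximalIdeal (AF.spec.presheaf.stalk (fgen AF.π y)) := by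
    refine eq_maximalIdeal (Ideal.isMaximal_def.2 ?_)
    rw [← isSimpleModule_iff_isCoatom, ← Module.length_eq_one_iff]
    exact length_fgen AF.π y
  have h0 := specMap_germ_tGlob e jE (fgen_spec_incl (φ := φ) y)
  rw [← h0]
  refine delta_and_ord hd _ hne (by rw [h0]; exact tRes_fgen_ne_zero e jE hS hqE hqF hφ hAE hAF hF y)
    (not_isUnit_germ_tGlob e jE hS hqE hqF hφ hAE hAF _) ?_
  exact maximalIdeal_le_sup (RelSpec.QCAlg.specMap φ) AE.π (RelSpec.QCAlg.specMap_π φ) (fgen AF.π y) hmax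
    (ker_incl_stalkMap e jE hS hqE hqF hφ hAE hAF _) _ (by rw [apply_fgen, apply_fgen])

include hS hqE hqF hφ hAE hAF hF in
theorem divFun_tRes [IsLocallyNoetherian AE.spec] {δE : AE.spec → ℤ} (hd : Cyc.IsDimFun AE.spec δE)
    {δF : AF.spec → ℤ} (hdF : Cyc.IsDimFun AF.spec δF) (hδ : ∀ z, δE (RelSpec.QCAlg.specMap φ z) = δF z)
    (hgo : ∀ y y', y ⤳ y' → fgen AF.π y ⤳ fgen AF.π y') (y : X) (x : AE.spec) :
    Cyc.divFun δE (fgen AE.π y) (tRes e jE (fgen AE.π y)) x =
      if x = RelSpec.QCAlg.specMap φ (fgen AF.π y) then 1 else 0 := by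
  obtain ⟨hdim, hord⟩ := delta_ord_fgen e jE hS hqE hqF hφ hAE hAF hF hd y
  by_cases hx : x = RelSpec.QCAlg.specMap φ (fgen AF.π y)
  · subst hx
    rw [if_pos rfl, Cyc.divFun, dif_pos ⟨fgen_spec_incl y, hdim⟩]
    exact hord
  rw [if_neg hx, Cyc.divFun]
  split_ifs with h
  · by_cases hr : x ∈ Set.range (RelSpec.QCAlg.specMap φ)
    · exfalso
      obtain ⟨z, rfl⟩ := hr
      have h1 := h.1.map AE.π.continuous
      rw [apply_fgen, ← Scheme.Hom.comp_apply, RelSpec.QCAlg.specMap_π] at h1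
      have h2 : fgen AF.π y ⤳ z := (hgo _ _ h1).trans (fgen_specializes AF.π rfl)
      have h3 := (hdF _ z h2 fun e' => hx (by rw [e'])).1
      have := h.2
      rw [hδ] at hdim this
      omega
    · rw [← specMap_germ_tGlob e jE h.1]
      exact ordAt_eq_zero_of_isUnit h.1 (isUnit_germ_tGlob e jE hS hqE hqF hφ hAE hAF hr)
  · rfl

include e hS hqE hqF hφ hAE hAF hF in
theorem map_generic_ratFun [IsLocallyNoetherian AE.spec] [IsLocallyNoetherian AF.spec] {δE : AE.spec → ℤ}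
    (hd : Cyc.IsDimFun AE.spec δE) {δF : AF.spec → ℤ} (hdF : Cyc.IsDimFun AF.spec δF)
    (hδ : ∀ z, δE (RelSpec.QCAlg.specMap φ z) = δF z)
    (hgo : ∀ y y', y ⤳ y' → fgen AF.π y ⤳ fgen AF.π y') [QuasiCompact (RelSpec.QCAlg.specMap φ)]
    {k : ℤ} (c : AlgebraicCycle AF.spec ℤ) (hc : c ∈ Cyc.Zk AF.spec δF k)
    (hsupp : ∀ x, c x ≠ 0 → x = fgen AF.π (AF.π x)) :
    RatFun δE k Set.univ ⇑(AlgebraicCycle.map (RelSpec.QCAlg.specMap φ) δF δE c) := by
  haveI := isClosedImmersion_incl jE hS hqE hqF hφ hAF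
  obtain ⟨hm1, hm2⟩ := map_closed_apply (RelSpec.QCAlg.specMap φ) hδ c
  let J : Type u := {y : X // c (fgen AF.π y) ≠ 0}
  have hdim : ∀ j : J, δE (fgen AE.π j.1) = k + 1 := fun j => by
    rw [← (delta_ord_fgen e jE hS hqE hqF hφ hAE hAF hF hd j.1).1, hδ,
      show δF (fgen AF.π j.1) = k from by_contra fun h => j.2 (hc _ h)]
  have hfam : RatFun δE k Set.univ fun x =>
      ∑ᶠ j : J, c (fgen AF.π j.1) * (if x = RelSpec.QCAlg.specMap φ (fgen AF.π j.1) then 1 else 0) := by
    refine RatFun.finsumSets (fun j : J => AE.π ⁻¹' closure {j.1})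
      (fun j => isClosed_closure.preimage AE.π.continuous) (fun x => ?_) _ fun j => RatFun.smul ?_ _
    · obtain ⟨U, hU, hxU, -⟩ := exists_isAffineOpen_mem_and_subset (U := (⊤ : X.Opens)) (x := AE.π x) trivial
      refine ⟨AE.π ⁻¹' U, U.isOpen.preimage AE.π.continuous, hxU,
        (((c.locallyFiniteSupport.finite_inter_support_of_isCompact
          (AF.π.isCompact_preimage hU.isCompact)).image AF.π).preimage Subtype.val_injective.injOn).subset ?_⟩
      rintro j ⟨w, hw, hwU⟩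
      exact ⟨fgen AF.π j.1, ⟨by show AF.π (fgen AF.π j.1) ∈ U; rw [apply_fgen]
                                exact (specializes_iff_mem_closure.2 hw).mem_open U.isOpen hwU, j.2⟩, apply_fgen _ _⟩
    · refine ⟨PUnit.{u+1}, fun _ => fgen AE.π j.1, fun _ => tRes e jE (fgen AE.π j.1), fun _ => hdim j,
        fun _ => tRes_fgen_ne_zero e jE hS hqE hqF hφ hAE hAF hF j.1,
        fun _ => ⟨trivial, subset_closure (apply_fgen AE.π j.1)⟩,
        fun _ => ⟨Set.univ, isOpen_univ, trivial, Set.toFinite _⟩, fun x => ?_⟩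
      rw [finsum_unique, divFun_tRes e jE hS hqE hqF hφ hAE hAF hF hd hdF hδ hgo]
  refine hfam.congr fun x => ?_
  by_cases hr : x ∈ Set.range (RelSpec.QCAlg.specMap φ)
  · obtain ⟨z, rfl⟩ := hr
    rw [hm1]
    by_cases hz : c z ≠ 0
    · have hzg := hsupp z hz
      rw [finsum_eq_single _ (⟨AF.π z, by rw [← hzg]; exact hz⟩ : J) fun j hj => ?_, if_pos (by rw [← hzg]),
        mul_one, ← hzg]
      rw [if_neg, mul_zero]
      intro h
      have h' := (RelSpec.QCAlg.specMap φ).isClosedEmbedding.injective h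
      exact hj (Subtype.ext ((congrArg AF.π h').trans (apply_fgen AF.π j.1)).symm)
    · rw [not_not] at hz
      rw [hz, finsum_eq_zero_of_forall_eq_zero fun j => ?_]
      rw [if_neg, mul_zero]
      intro h
      have h' := (RelSpec.QCAlg.specMap φ).isClosedEmbedding.injective h
      exact j.2 (by rw [← h', hz])
  · rw [hm2 x hr, finsum_eq_zero_of_forall_eq_zero fun j => ?_]
    rw [if_neg fun h => hr ⟨_, h.symm⟩, mul_zero]

end Groth.Agent.Cyc26B
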