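import Groth.Agent.Lib.Cyc26.AffSpace

/-! # Cycles on a morphism with cell-like fibres are generated by generic points of fibres -/

set_option autoImplicit false
universe u

set_option backward.isDefEq.respectTransparency.types false

open CategoryTheory AlgebraicGeometry TopologicalSpace
open scoped Classical

namespace Groth.Agent.Cyc26B

open Groth.Agent.Cyc26

variable {X Y : Scheme.{u}} (f : X ⟶ Y) [QuasiCompact f] [IsLocallyNoetherian X]
  [∀ y, IsIntegral (f.fiber y)] {δX : X → ℤ}

theorem fgen_lt (hdX : Cyc.IsDimFun X δX) (hgo : ∀ y y', y ⤳ y' → fgen f y ⤳ fgen f y') {y y' : Y}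
    (h : y ⤳ y') (hne : y ≠ y') : δX (fgen f y') < δX (fgen f y) :=
  (hdX _ _ (hgo y y' h) fun e => hne (by rw [← apply_fgen f y, e, apply_fgen])).1

theorem exists_nhd_finite (a : AlgebraicCycle X ℤ) (x : X) :
    ∃ U : Set X, IsOpen U ∧ x ∈ U ∧ {z : X | a z ≠ 0 ∧ (f ⁻¹' closure {f z} ∩ U).Nonempty}.Finite := by
  obtain ⟨U, hU, hxU, -⟩ := exists_isAffineOpen_mem_and_subset (U := (⊤ : Y.Opens)) (x := f x) trivial
  refine ⟨f ⁻¹' U, U.isOpen.preimage f.continuous, hxU,
    (a.locallyFiniteSupport.finite_inter_support_of_isCompact (f.isCompact_preimage hU.isCompact)).subset ?_⟩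
  rintro z ⟨hz, w, hw, hwU⟩
  exact ⟨(specializes_iff_mem_closure.2 hw).mem_open U.isOpen hwU, hz⟩

/-- A point is a combination of generic points of fibres, up to principal divisors over its closure. -/
theorem exists_ratFun_point (hdX : Cyc.IsDimFun X δX) (hgo : ∀ y y', y ⤳ y' → fgen f y ⤳ fgen f y')
    (hfact : ∀ y (v : f.fiber y), v ≠ genericPoint (f.fiber y) → PtRat (fun z => δX (f.fiberι y z)) v)
    (k : ℤ) : ∀ (n : ℕ) (x : X), δX x = k → δX (fgen f (f x)) ≤ k + n →
      ∃ G : X → ℤ, RatFun δX k (f ⁻¹' closure {f x}) G ∧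
        ∀ z, z ≠ fgen f (f z) → G z = if z = x then 1 else 0 := by
  intro n
  induction n with
  | zero =>
    intro x hx hle
    have hxg : x = fgen f (f x) := by
      by_contra hne
      have := (hdX _ x (fgen_specializes f rfl) fun e => hne e.symm).1
      omega
    exact ⟨fun _ => 0, RatFun.zero fun _ => rfl, fun z hz => (if_neg fun e => hz (by rw [e]; exact hxg)).symm⟩
  | succ n ih =>
    intro x hx hle
    by_cases hxg : x = fgen f (f x)
    · exact ⟨fun _ => 0, RatFun.zero fun _ => rfl, fun z hz => (if_neg fun e => hz (by rw [e]; exact hxg)).symm⟩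
    obtain ⟨v, hv⟩ := (f.range_fiberι (f x)).symm.le (show f x = f x from rfl)
    have hne : v ≠ genericPoint (f.fiber (f x)) := fun e => hxg (by rw [fgen, ← e]; exact hv.symm)
    have h3 : RatFun (fun z => δX (f.fiberι (f x) z)) k Set.univ fun z => if z = v then 1 else 0 := by
      have h4 := hfact _ v hne
      have e : δX (f.fiberι (f x) v) = k := (congrArg δX hv).trans hx
      simp only [PtRat] at h4
      rw [e] at h4
      exact h4
    obtain ⟨G₀, hG₀, hG₀e⟩ := exists_ratFun_of_fibre f (f x) h3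
    have hG₀f : ∀ z, f z = f x → G₀ z = if z = x then 1 else 0 := by
      intro z hz
      obtain ⟨w, rfl⟩ := (f.range_fiberι (f x)).symm.le hz
      rw [hG₀e]
      refine if_congr ?_ rfl rfl
      show w = v ↔ _
      exact ⟨fun e => by rw [e]; exact hv,
        fun e => (f.fiberι (f x)).isEmbedding.injective (e.trans hv.symm)⟩
    obtain ⟨a, ha⟩ := hG₀.exists_cycle hdX
    let J : Type u := {z : X // G₀ z ≠ 0 ∧ f z ≠ f x}
    have hJsp : ∀ j : J, f x ⤳ f j.1 := fun j => by
      by_contra h
      exact j.2.1 (hG₀.eq_zero_off (isClosed_closure.preimage f.continuous) subset_rfl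
        fun hm => h (specializes_iff_mem_closure.2 hm))
    have hJdim : ∀ j : J, δX j.1 = k := fun j => by
      by_contra h
      exact j.2.1 (hG₀.eq_zero_of_dim h)
    have hH : ∀ j : J, ∃ H : X → ℤ, RatFun δX k (f ⁻¹' closure {f j.1}) H ∧
        ∀ z, z ≠ fgen f (f z) → H z = if z = j.1 then 1 else 0 := fun j => by
      have := fgen_lt f hdX hgo (hJsp j) fun e => j.2.2 e.symm
      exact ih j.1 (hJdim j) (by push_cast at hle ⊢; omega)
    choose H hH hHe using hH
    have hfam : RatFun δX k (f ⁻¹' closure {f x}) fun z => ∑ᶠ j : J, G₀ j.1 * H j z := by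
      refine RatFun.finsumSets (fun j : J => f ⁻¹' closure {f j.1})
        (fun j => isClosed_closure.preimage f.continuous) (fun w => ?_) _ fun j => ((hH j).smul (G₀ j.1)).mono ?_
      · obtain ⟨U, hU, hwU, hfin⟩ := exists_nhd_finite f a w
        refine ⟨U, hU, hwU, (hfin.preimage Subtype.val_injective.injOn).subset fun j hj => ?_⟩
        exact ⟨by rw [ha]; exact j.2.1, hj⟩
      · exact Set.subset_inter (Set.preimage_mono (closure_minimal
          (Set.singleton_subset_iff.2 (specializes_iff_mem_closure.1 (hJsp j))) isClosed_closure)) subset_rfl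
    refine ⟨fun z => G₀ z - ∑ᶠ j : J, G₀ j.1 * H j z, hG₀.sub hfam, fun z hz => ?_⟩
    show G₀ z - _ = _
    by_cases hzJ : G₀ z ≠ 0 ∧ f z ≠ f x
    · rw [finsum_eq_single _ (⟨z, hzJ⟩ : J) fun j hj => by
        rw [hHe j z hz, if_neg fun e => hj (Subtype.ext e.symm), mul_zero], hHe _ z hz, if_pos rfl, mul_one,
        sub_self, if_neg]
      rintro rfl
      exact hzJ.2 rfl
    · rw [finsum_eq_zero_of_forall_eq_zero fun j => by
        rw [hHe j z hz, if_neg fun e => hzJ (by rw [e]; exact j.2), mul_zero], sub_zero]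
      by_cases hfz : f z = f x
      · exact hG₀f z hfz
      · rw [if_neg fun e => hfz (by rw [e])]
        by_contra h
        exact hzJ ⟨h, hfz⟩

/-- Every cycle is rationally equivalent to one supported on generic points of fibres. -/
theorem exists_generic_rep (hdX : Cyc.IsDimFun X δX) (hgo : ∀ y y', y ⤳ y' → fgen f y ⤳ fgen f y')
    (hfact : ∀ y (v : f.fiber y), v ≠ genericPoint (f.fiber y) → PtRat (fun z => δX (f.fiberι y z)) v)
    (k : ℤ) (β : AlgebraicCycle X ℤ) (hβ : β ∈ Cyc.Zk X δX k) :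
    ∃ c : AlgebraicCycle X ℤ, c ∈ Cyc.Zk X δX k ∧ (∀ x, c x ≠ 0 → x = fgen f (f x)) ∧
      RatFun δX k Set.univ fun x => β x - c x := by
  let J : Type u := {x : X // β x ≠ 0}
  have hJdim : ∀ j : J, δX j.1 = k := fun j => by_contra fun h => j.2 (hβ j.1 h)
  have hG : ∀ j : J, ∃ G : X → ℤ, RatFun δX k (f ⁻¹' closure {f j.1}) G ∧
      ∀ z, z ≠ fgen f (f z) → G z = if z = j.1 then 1 else 0 := fun j => by
    refine exists_ratFun_point f hdX hgo hfact k (δX (fgen f (f j.1)) - k).toNat j.1 (hJdim j) ?_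
    have := Int.self_le_toNat (δX (fgen f (f j.1)) - k)
    omega
  choose G hG hGe using hG
  have hfam : RatFun δX k Set.univ fun z => ∑ᶠ j : J, β j.1 * G j z := by
    refine RatFun.finsumSets (fun j : J => f ⁻¹' closure {f j.1})
      (fun j => isClosed_closure.preimage f.continuous) (fun w => ?_) _
      fun j => ((hG j).smul (β j.1)).mono fun y hy => ⟨trivial, hy⟩
    obtain ⟨U, hU, hwU, hfin⟩ := exists_nhd_finite f β w
    exact ⟨U, hU, hwU, (hfin.preimage Subtype.val_injective.injOn).subset fun j hj => ⟨j.2, hj⟩⟩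
  obtain ⟨a, ha⟩ := hfam.exists_cycle hdX
  refine ⟨β - a, fun x hx => ?_, fun x hx => ?_, hfam.congr fun x => ?_⟩
  · show β x - a x = 0
    rw [hβ x hx, ha, hfam.eq_zero_of_dim hx, sub_zero]
  · by_contra hxg
    apply hx
    show β x - a x = 0
    rw [ha, sub_eq_zero]
    by_cases hxJ : β x ≠ 0
    · rw [finsum_eq_single _ (⟨x, hxJ⟩ : J) fun j hj => by
        rw [hGe j x hxg, if_neg fun e => hj (Subtype.ext e.symm), mul_zero], hGe _ x hxg, if_pos rfl, mul_one]
    · rw [not_not] at hxJ
      rw [hxJ, finsum_eq_zero_of_forall_eq_zero fun j => by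
        rw [hGe j x hxg, if_neg fun e => j.2 (by rw [← e]; exact hxJ), mul_zero]]
  · show _ = β x - (β x - a x)
    rw [ha]
    ring

end Groth.Agent.Cyc26B
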