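import Groth.Agent.Lib.Cyc26B.Sections
import Groth.Agent.Lib.Cyc26B.Bundle
import Groth.Agent.Lib.SpecLim13.Basic
import Groth.Agent.Lib.RegImm26.Noeth

/-! # The inclusion of a corank one subbundle with trivial quotient -/

set_option autoImplicit false
universe u

set_option backward.isDefEq.respectTransparency false
set_option backward.isDefEq.respectTransparency.types false

open CategoryTheory AlgebraicGeometry Opposite Limits TopologicalSpace

noncomputable section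

namespace Groth.Agent.Cyc26B

open Groth.Agent.Cyc26

variable {X : Scheme.{u}} {S : ShortComplex X.Modules} (e : S.X₁ ≅ Coh.structureModule X)
  {AE AF : RelSpec.QCAlg X} (jE : S.X₂ ⟶ AE.toModule) {jF : S.X₃ ⟶ AF.toModule} {φ : AE ⟶ AF}

/-- The function cutting out the subbundle. -/
def tGlob : Γ(AE.spec, (⊤ : AE.spec.Opens)) := ((RelSpecB.gammaInv AE).app (op ⊤)).hom (tsec e jE ⊤)

theorem gamma_res_tGlob (U : X.Opens) :
    (AE.gammaMap.app (op U)).hom ((AE.spec.presheaf.map (homOfLE (le_top : AE.π ⁻¹ᵁ U ≤ ⊤)).op).hom (tGlob e jE)) =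
      tsec e jE U := by
  have h1 : (AE.gammaMap.app (op ⊤)).hom (tGlob e jE) = tsec e jE ⊤ :=
    ConcreteCategory.congr_hom (NatTrans.congr_app (RelSpecB.gammaInv_gammaMap AE) (op ⊤)) _
  refine (ConcreteCategory.congr_hom (AE.gammaMap.naturality (homOfLE (le_top : U ≤ ⊤)).op) (tGlob e jE)).trans ?_
  show (AE.presheaf.map _).hom ((AE.gammaMap.app (op ⊤)).hom (tGlob e jE)) = _
  rw [h1, tsec_res e jE (le_top : U ≤ ⊤)]

theorem gamma_injective (A : RelSpec.QCAlg X) (U : X.Opens) :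
    Function.Bijective (A.gammaMap.app (op U)).hom := by
  haveI := RelSpecB.isIso_gammaMap A
  exact ConcreteCategory.bijective_of_isIso (A.gammaMap.app (op U))

variable (hS : S.ShortExact) (hqE : Coh.IsQCoh S.X₂) (hqF : Coh.IsQCoh S.X₃)
  (hφ : jE ≫ RelSpec.QCAlg.Hom.toModuleMap φ = S.g ≫ jF)
  (hAE : RelSpec.IsSymAlg S.X₂ AE jE) (hAF : RelSpec.IsSymAlg S.X₃ AF jF)

include hS hqE hqF hφ hAF in
theorem isClosedImmersion_incl : IsClosedImmersion (RelSpec.QCAlg.specMap φ) :=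
  SymAlg11.specMap_of_forall @IsClosedImmersion φ fun _ hU =>
    IsClosedImmersion.spec_of_surjective _ (phi_surjective jE hS hqE hqF hφ hAF hU)

include hS hqE hqF hφ hAE hAF in
theorem ker_incl_app {U : X.Opens} (hU : IsAffineOpen U) :
    RingHom.ker ((RelSpec.QCAlg.specMap φ).app (AE.π ⁻¹ᵁ U)).hom =
      Ideal.span {(AE.spec.presheaf.map (homOfLE (le_top : AE.π ⁻¹ᵁ U ≤ ⊤)).op).hom (tGlob e jE)} := by
  set i := RelSpec.QCAlg.specMap φ
  have he : AF.π ⁻¹ᵁ U = i ⁻¹ᵁ (AE.π ⁻¹ᵁ U) := by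
    rw [← Scheme.Hom.comp_preimage, RelSpec.QCAlg.specMap_π]
  have hnat := SpecLim13.gammaMap_natural φ U he.le
  have h1 : RingHom.ker (i.app (AE.π ⁻¹ᵁ U)).hom = RingHom.ker (i.appLE (AE.π ⁻¹ᵁ U) (AF.π ⁻¹ᵁ U) he.le).hom := by
    rw [Scheme.Hom.appLE, CommRingCat.hom_comp]
    haveI : IsIso (AF.spec.presheaf.map (homOfLE he.le).op) := by
      rw [show (homOfLE he.le) = eqToHom he from Subsingleton.elim _ _]; infer_instance
    exact (RingHom.ker_comp_of_injective _ (ConcreteCategory.bijective_of_isIso _).injective).symm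
  rw [h1]
  ext a
  have h2 : (i.appLE (AE.π ⁻¹ᵁ U) (AF.π ⁻¹ᵁ U) he.le).hom a = 0 ↔
      (AE.gammaMap.app (op U)).hom a ∈ RingHom.ker (φ.hom.app (op U)).hom := by
    rw [← map_eq_zero_iff _ (gamma_injective AF U).1, RingHom.mem_ker]
    exact Eq.congr_left (ConcreteCategory.congr_hom hnat a)
  rw [RingHom.mem_ker, h2, ker_phi e jE hS hqE hqF hφ hAE hAF hU, Ideal.mem_span_singleton',
    Ideal.mem_span_singleton']
  constructor
  · rintro ⟨c, hc⟩
    obtain ⟨c, rfl⟩ := (gamma_injective AE U).2 c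
    refine ⟨c, (gamma_injective AE U).1 ?_⟩
    rw [map_mul, gamma_res_tGlob, hc]
  · rintro ⟨c, rfl⟩
    exact ⟨_, by rw [map_mul, gamma_res_tGlob]⟩

include hS hqE hqF hφ hAE hAF in
theorem ker_incl_stalkMap (z : AF.spec) :
    RingHom.ker ((RelSpec.QCAlg.specMap φ).stalkMap z).hom =
      Ideal.span {(AE.spec.presheaf.germ ⊤ (RelSpec.QCAlg.specMap φ z) trivial).hom (tGlob e jE)} := by
  haveI := isClosedImmersion_incl jE hS hqE hqF hφ hAF
  obtain ⟨U, hU, hz, -⟩ := exists_isAffineOpen_mem_and_subset (U := (⊤ : X.Opens))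
    (x := AE.π (RelSpec.QCAlg.specMap φ z)) trivial
  rw [RegImm26.ker_stalkMap_eq _ z (hU.preimage AE.π) hz, ker_incl_app e jE hS hqE hqF hφ hAE hAF hU,
    Ideal.map_span, Set.image_singleton]
  congr 2
  exact AE.spec.presheaf.germ_res_apply _ _ hz _

include hS hqE hqF hφ hAE hAF in
theorem isUnit_germ_tGlob {x : AE.spec} (hx : x ∉ Set.range (RelSpec.QCAlg.specMap φ)) :
    IsUnit ((AE.spec.presheaf.germ ⊤ x trivial).hom (tGlob e jE)) := by
  haveI := isClosedImmersion_incl jE hS hqE hqF hφ hAF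
  by_contra hn
  apply hx
  rw [← (RelSpec.QCAlg.specMap φ).isClosedEmbedding.isClosed_range.closure_eq, ← Scheme.Hom.support_ker]
  obtain ⟨U, hU, hxU, -⟩ := exists_isAffineOpen_mem_and_subset (U := (⊤ : X.Opens)) (x := AE.π x) trivial
  show x ∈ (RelSpec.QCAlg.specMap φ).ker.support
  rw [Scheme.IdealSheafData.mem_support_iff_of_mem (U := ⟨AE.π ⁻¹ᵁ U, hU.preimage AE.π⟩) hxU,
    Scheme.mem_zeroLocus_iff]
  intro a ha hxa
  rw [SetLike.mem_coe, Scheme.Hom.ker_apply, ker_incl_app e jE hS hqE hqF hφ hAE hAF hU,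
    Ideal.mem_span_singleton'] at ha
  obtain ⟨c, rfl⟩ := ha
  rw [Scheme.basicOpen_mul] at hxa
  refine hn ?_
  have h := (AE.spec.mem_basicOpen _ x hxU).1 hxa.2
  rwa [show (AE.spec.presheaf.germ (AE.π ⁻¹ᵁ U) x hxU).hom
    ((AE.spec.presheaf.map (homOfLE (le_top : AE.π ⁻¹ᵁ U ≤ ⊤)).op).hom (tGlob e jE)) =
      (AE.spec.presheaf.germ ⊤ x trivial).hom (tGlob e jE) from AE.spec.presheaf.germ_res_apply _ _ hxU _] at h

include hS hqE hqF hφ hAE hAF in
theorem not_isUnit_germ_tGlob (z : AF.spec) :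
    ¬ IsUnit ((AE.spec.presheaf.germ ⊤ (RelSpec.QCAlg.specMap φ z) trivial).hom (tGlob e jE)) := by
  intro h
  have h0 : ((RelSpec.QCAlg.specMap φ).stalkMap z).hom
      ((AE.spec.presheaf.germ ⊤ (RelSpec.QCAlg.specMap φ z) trivial).hom (tGlob e jE)) = 0 := by
    rw [← RingHom.mem_ker, ker_incl_stalkMap e jE hS hqE hqF hφ hAE hAF z]
    exact Ideal.subset_span rfl
  exact not_isUnit_zero (h0 ▸ h.map ((RelSpec.QCAlg.specMap φ).stalkMap z).hom)

include e hS hqE hqF hφ hAE hAF in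
theorem exists_off_range (hF : FlatMod.IsFinLocFree S.X₃) (y : X) :
    ∃ x : AE.spec, AE.π x = y ∧ x ∉ Set.range (RelSpec.QCAlg.specMap φ) := by
  obtain ⟨W, hW, n, hy, ⟨b⟩⟩ := exists_basis hqF hF y
  obtain ⟨r, hr, hrt⟩ := exists_retraction e jE hS hqE hqF hAE hW b
  have hcomp : Spec.map (CommRingCat.ofHom r) ≫ Spec.map (AE.str.app (op W)) = 𝟙 _ := by
    rw [← Spec.map_comp, ← Spec.map_id]
    congr 1
    exact CommRingCat.hom_ext (RingHom.ext hr)
  have hyr : y ∈ Set.range hW.fromSpec := by rw [IsAffineOpen.range_fromSpec]; exact hy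
  obtain ⟨p, hp⟩ := hyr
  let s : Spec Γ(X, W) ⟶ AE.spec := Spec.map (CommRingCat.ofHom r) ≫ AE.ι W hW
  have hs : s ≫ AE.π = hW.fromSpec := by
    rw [Category.assoc, AE.ι_π, reassoc_of% hcomp]
  refine ⟨s p, by rw [← Scheme.Hom.comp_apply, hs, hp], ?_⟩
  rintro ⟨z, hz⟩
  have hzW : z ∈ AF.π ⁻¹ᵁ W := by
    show AF.π z ∈ W
    rw [← RelSpec.QCAlg.specMap_π φ, Scheme.Hom.comp_apply, hz, ← Scheme.Hom.comp_apply, hs, hp]
    exact hy
  rw [AF.π_preimage W hW] at hzW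
  obtain ⟨q, rfl⟩ := hzW
  rw [← Scheme.Hom.comp_apply, RelSpec.QCAlg.ι_specMap, Scheme.Hom.comp_apply] at hz
  have h2 := (AE.ι W hW).isOpenEmbedding.injective hz
  have hq : (tsec e jE W) ∈ ((Spec.map (φ.hom.app (op W))) q).asIdeal := by
    show (φ.hom.app (op W)).hom (tsec e jE W) ∈ q.asIdeal
    rw [app_tsec e jE hS hφ W]
    exact q.asIdeal.zero_mem
  rw [h2] at hq
  have h3 : r (tsec e jE W) ∈ p.asIdeal := hq
  rw [hrt] at h3
  exact p.isPrime.ne_top ((Ideal.eq_top_iff_one _).2 h3)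

end Groth.Agent.Cyc26B
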