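import Groth.Agent.Lib.SymAlg11.Ring
import Mathlib.RingTheory.Localization.Away.Basic
import Mathlib.RingTheory.MvPolynomial.Basic
import Mathlib.RingTheory.Ideal.Quotient.Operations

/-! # Away from the coordinate a symmetric algebra is Laurent over the affine hyperplane -/

set_option autoImplicit false
universe u

open MvPolynomial

noncomputable section

namespace Groth.Agent.Cyc26B

variable {R A G M : Type u} [CommRing R] [CommRing A] [CommRing G] [AddCommGroup M] [Module R M]

theorem hom_ext_of_sym {str : R →+* A} {j : M →+ A} {hj : ∀ r m, j (r • m) = str r * j m}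
    (hbij : Function.Bijective (SymAlg11.symLift str j hj)) {Z : Type u} [CommRing Z] {f g : A →+* Z}
    (h1 : ∀ r, f (str r) = g (str r)) (h2 : ∀ m, f (j m) = g (j m)) : f = g := by
  have h : f.comp (SymAlg11.symLift str j hj) = g.comp (SymAlg11.symLift str j hj) :=
    SymAlg11.symHom_ext (fun r => by simp [h1]) (fun m => by simp [h2])
  exact RingHom.ext fun a => by
    obtain ⟨b, rfl⟩ := hbij.2 a
    exact DFunLike.congr_fun h b

theorem exists_lift_of_sym {str : R →+* A} {j : M →+ A} {hj : ∀ r m, j (r • m) = str r * j m}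
    (hbij : Function.Bijective (SymAlg11.symLift str j hj)) {Z : Type u} [CommRing Z] (c : R →+* Z) (h : M →+ Z)
    (hh : ∀ r m, h (r • m) = c r * h m) : ∃ f : A →+* Z, (∀ r, f (str r) = c r) ∧ ∀ m, f (j m) = h m := by
  let L := RingEquiv.ofBijective _ hbij
  refine ⟨(SymAlg11.symLift c h hh).comp L.symm.toRingHom, fun r => ?_, fun m => ?_⟩
  · show SymAlg11.symLift c h hh (L.symm _) = _
    rw [← SymAlg11.symLift_algebraMap str j hj r, show SymAlg11.symLift str j hj _ = L _ from rfl,
      L.symm_apply_apply, SymAlg11.symLift_algebraMap]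
  · show SymAlg11.symLift c h hh (L.symm _) = _
    rw [← SymAlg11.symLift_ι str j hj m, show SymAlg11.symLift str j hj _ = L _ from rfl,
      L.symm_apply_apply, SymAlg11.symLift_ι]

/-- The localisation at the coordinate is a Laurent ring over the hyperplane at level `a`. -/
theorem exists_laurent {str : R →+* A} {j : M →+ A} {hj : ∀ r m, j (r • m) = str r * j m}
    (hbij : Function.Bijective (SymAlg11.symLift str j hj)) (m0 : M) (a : Rˣ)
    (ρ : A →+* G) (hloc : letI := ρ.toAlgebra; IsLocalization.Away (j m0) G)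
    (τ : G) (hτ : ρ (j m0) * τ = 1) (ω : A →+* G) (hωr : ∀ r, ω (str r) = ρ (str r))
    (hωm : ∀ m, ω (j m) = ρ (str a) * τ * ρ (j m)) :
    ∃ (g0 : (A ⧸ Ideal.span {j m0 - str a}) →+* G)
      (e : Localization.Away (X 0 : MvPolynomial (Fin 1) (A ⧸ Ideal.span {j m0 - str a})) ≃+* G)
      (s : G →+* (A ⧸ Ideal.span {j m0 - str a})),
      (∀ x, g0 (Ideal.Quotient.mk _ x) = ω x) ∧ (∀ b, e (algebraMap (MvPolynomial (Fin 1) (A ⧸ Ideal.span {j m0 - str a})) _ (C b)) = g0 b) ∧ ∀ b, s (g0 b) = b := by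
  let I := Ideal.span {j m0 - str a}
  let q : A →+* A ⧸ I := Ideal.Quotient.mk I
  letI := ρ.toAlgebra
  haveI : IsLocalization.Away (j m0) G := hloc
  have hI : ∀ x ∈ I, ω x = 0 := fun x hx => by
    obtain ⟨c, rfl⟩ := Ideal.mem_span_singleton'.1 hx
    rw [map_mul, map_sub, hωm, hωr, mul_assoc, mul_comm τ, hτ, mul_one, sub_self, mul_zero]
  let g0 : (A ⧸ I) →+* G := Ideal.Quotient.lift I ω hI
  let Pm := MvPolynomial (Fin 1) (A ⧸ I)
  let L := Localization.Away (X 0 : Pm)
  let ι : Pm →+* L := algebraMap Pm L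
  let T : G := ρ (j m0) * ρ (str ↑a⁻¹)
  have hT : IsUnit T := (IsUnit.of_mul_eq_one _ hτ).mul (((Units.isUnit a⁻¹).map str).map ρ)
  let gP : Pm →+* G := eval₂Hom g0 fun _ => T
  have hgPC : ∀ b, gP (C b) = g0 b := fun b => MvPolynomial.eval₂Hom_C g0 _ b
  have hgPX : ∀ i : Fin 1, gP (X i) = T := fun i => MvPolynomial.eval₂Hom_X' g0 (fun _ => T) i
  have hgX : IsUnit (gP (X 0)) := by rw [hgPX]; exact hT
  let gL : L →+* G := IsLocalization.Away.lift (X 0 : Pm) hgX
  have hgL : ∀ p, gL (ι p) = gP p := fun p => IsLocalization.Away.lift_eq _ _ p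
  let lam : L := ι (X 0)
  have hlam : IsUnit lam := IsLocalization.Away.algebraMap_isUnit (X 0 : Pm)
  let h : M →+ L := AddMonoidHom.mk' (fun m => lam * ι (C (q (j m)))) fun x y => by
    simp only [map_add, mul_add]
  obtain ⟨fA, hfr, hfm⟩ := exists_lift_of_sym hbij ((ι.comp C).comp (q.comp str)) h fun r m => by
    show lam * ι (C (q (j (r • m)))) = ι (C (q (str r))) * (lam * ι (C (q (j m))))
    rw [hj, map_mul, map_mul, map_mul]
    ring
  have hqa : q (j m0) = q (str a) := Ideal.Quotient.eq.2 (Ideal.subset_span rfl)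
  have hft : fA (j m0) = lam * ι (C (q (str a))) := by
    rw [hfm]
    show lam * ι (C (q (j m0))) = _
    rw [hqa]
  have hfu : IsUnit (fA (j m0)) := by
    rw [hft]
    exact hlam.mul ((((a.isUnit.map str).map q).map C).map ι)
  let fG : G →+* L := IsLocalization.Away.lift (j m0) hfu
  have hfG : ∀ x, fG (ρ x) = fA x := fun x => IsLocalization.Away.lift_eq _ _ x
  have hτ' : fG τ * fA (j m0) = 1 := by rw [← hfG, ← map_mul, mul_comm, hτ, map_one]
  have hfω : fG.comp ω = (ι.comp C).comp q := hom_ext_of_sym hbij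
    (fun r => by
      show fG (ω (str r)) = _
      rw [hωr, hfG, hfr]; rfl)
    (fun m => by
      show fG (ω (j m)) = ι (C (q (j m)))
      rw [hωm, map_mul, map_mul, hfG, hfG, hfr, hfm]
      show ι (C (q (str a))) * fG τ * (lam * ι (C (q (j m)))) = _
      rw [hft] at hτ'
      linear_combination ι (C (q (j m))) * hτ')
  have h1 : gL.comp fG = RingHom.id G := by
    refine IsLocalization.ringHom_ext (Submonoid.powers (j m0)) ?_
    refine hom_ext_of_sym hbij (fun r => ?_) (fun m => ?_)
    · show gL (fG (ρ (str r))) = ρ (str r)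
      rw [hfG, hfr]
      show gL (ι (C (q (str r)))) = _
      rw [hgL, hgPC]
      exact hωr r
    · show gL (fG (ρ (j m))) = ρ (j m)
      rw [hfG, hfm]
      show gL (lam * ι (C (q (j m)))) = _
      rw [map_mul, hgL, hgL, hgPX, hgPC]
      show T * ω (j m) = _
      rw [hωm]
      simp only [T]
      have ha : ρ (str ↑a⁻¹) * ρ (str a) = 1 := by rw [← map_mul, ← map_mul, Units.inv_mul, map_one, map_one]
      linear_combination (ρ (j m0) * τ * ρ (j m)) * ha + ρ (j m) * hτ
  have h2 : fG.comp gL = RingHom.id L := by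
    refine IsLocalization.ringHom_ext (Submonoid.powers (X 0 : Pm)) (MvPolynomial.ringHom_ext (fun b => ?_) fun i => ?_)
    · show fG (gL (ι (C b))) = ι (C b)
      obtain ⟨x, rfl⟩ := Ideal.Quotient.mk_surjective b
      rw [hgL, hgPC]
      exact DFunLike.congr_fun hfω x
    · show fG (gL (ι (X i))) = ι (X i)
      obtain rfl : i = 0 := Subsingleton.elim _ _
      rw [hgL, hgPX]
      simp only [T, map_mul]
      rw [hfG, hfG, hfr, hft]
      show lam * ι (C (q (str a))) * ι (C (q (str ↑a⁻¹))) = lam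
      rw [mul_assoc, ← map_mul ι (C _), ← map_mul C, ← map_mul q, ← map_mul str, Units.mul_inv, map_one, map_one, map_one, map_one,
        mul_one]
  let e : L ≃+* G := RingEquiv.ofRingHom gL fG h1 h2
  let sP : Pm →+* A ⧸ I := eval₂Hom (RingHom.id _) fun _ => 1
  have hsX : IsUnit (sP (X 0)) := by rw [show sP (X 0) = 1 from MvPolynomial.eval₂Hom_X' _ _ _]; exact isUnit_one
  let sL : L →+* A ⧸ I := IsLocalization.Away.lift (X 0 : Pm) hsX
  refine ⟨g0, e, sL.comp fG, fun x => rfl, fun b => ?_, fun b => ?_⟩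
  · show gL (ι (C b)) = g0 b
    rw [hgL, hgPC]
  · show sL (fG (g0 b)) = b
    obtain ⟨x, rfl⟩ := Ideal.Quotient.mk_surjective b
    rw [show fG (g0 (Ideal.Quotient.mk I x)) = ι (C (q x)) from DFunLike.congr_fun hfω x]
    rw [show sL (ι (C (q x))) = sP (C (q x)) from IsLocalization.Away.lift_eq _ _ _]
    exact MvPolynomial.eval₂Hom_C _ _ _

end Groth.Agent.Cyc26B
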