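import Groth.Agent.Lib.Cyc26B.Scaling
import Groth.Agent.Lib.Cyc26B.LaurentRing
import Groth.Agent.Lib.QCGen12.Lift

/-! # Charts of the affine bundle and of the scaling map -/

set_option autoImplicit false
universe u

set_option backward.isDefEq.respectTransparency false
set_option backward.isDefEq.respectTransparency.types false

open CategoryTheory AlgebraicGeometry Opposite Limits TopologicalSpace

noncomputable section

namespace Groth.Agent.Cyc26B

variable {X : Scheme.{u}}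

theorem lift_natural {A B : RelSpec.QCAlg X} (φ : A ⟶ B) {Y : Scheme.{u}} (f : Y ⟶ X)
    (ω : B.presheaf ⟶ f.base _* Y.presheaf) :
    QCGen12.lift B f ω ≫ RelSpec.QCAlg.specMap φ = QCGen12.lift A f (φ.hom ≫ ω) := by
  refine Scheme.Cover.hom_ext (Y.openCoverOfIsOpenCover (fun U : X.affineOpens => f ⁻¹ᵁ U.1)
    (.comap (iSup_affineOpens_eq_top X) f.base.1)) _ _ fun U => ?_
  change (f ⁻¹ᵁ U.1).ι ≫ QCGen12.lift B f ω ≫ _ = (f ⁻¹ᵁ U.1).ι ≫ _
  rw [reassoc_of% (QCGen12.ι_lift B f ω U.1 U.2), RelSpec.QCAlg.ι_specMap U.1 U.2 φ,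
    QCGen12.ι_lift A f _ U.1 U.2, ← Spec.map_comp_assoc]
  rfl

variable {S : ShortComplex X.Modules} (e : S.X₁ ≅ Coh.structureModule X) {AE : RelSpec.QCAlg X}
  (jE : S.X₂ ⟶ AE.toModule) {A1 : RelSpec.QCAlg X} (j1 : Coh.structureModule X ⟶ A1.toModule)
  (hA1 : RelSpec.IsSymAlg (Coh.structureModule X) A1 j1)
  (ψ : A1 ⟶ AE) (hψ : j1 ≫ RelSpec.QCAlg.Hom.toModuleMap ψ = e.inv ≫ S.f ≫ jE)
  (u : Coh.structureModule X ⟶ (RelSpec.QCAlg.unit X).toModule)
  (ε : A1 ⟶ RelSpec.QCAlg.unit X) (hε : j1 ≫ RelSpec.QCAlg.Hom.toModuleMap ε = u)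

include hψ in
theorem psi_gen (U : X.Opens) : (ψ.hom.app (op U)).hom (sec A1 j1 U (M1.one U)) = tsec e jE U :=
  congrArg (fun g => Scheme.Modules.Hom.app g U (M1.one U)) hψ

include hε in
theorem eps_gen (U : X.Opens) : (ε.hom.app (op U)).hom (sec A1 j1 U (M1.one U)) = aSec u U :=
  congrArg (fun g => Scheme.Modules.Hom.app g U (M1.one U)) hε

/-- The equation of the affine bundle. -/
def bIdeal (U : X.Opens) : Ideal (AE.presheaf.obj (op U)) :=
  Ideal.span {tsec e jE U - (AE.str.app (op U)).hom (aSec u U)}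

include hA1 hψ hε in
theorem isPushout_bRing {U : X.Opens} (hU : IsAffineOpen U) :
    IsPushout (ψ.hom.app (op U)) (ε.hom.app (op U)) (CommRingCat.ofHom (Ideal.Quotient.mk (bIdeal e jE u U)))
      (CommRingCat.ofHom ((Ideal.Quotient.mk (bIdeal e jE u U)).comp (AE.str.app (op U)).hom)) := by
  have hq : Coh.IsQCoh (Coh.structureModule X) := M1.isQCoh_structureModule X
  have hεs : ∀ r, (ε.hom.app (op U)).hom ((A1.str.app (op U)).hom r) = r := fun r => app_str (φ := ε) U r
  have hψs : ∀ r, (ψ.hom.app (op U)).hom ((A1.str.app (op U)).hom r) = (AE.str.app (op U)).hom r :=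
    fun r => app_str (φ := ψ) U r
  have hgen : ∀ m : Γ(X, U), sec A1 j1 U m = (A1.str.app (op U)).hom m * sec A1 j1 U (M1.one U) := fun m =>
    (congrArg (sec A1 j1 U) (mul_one m).symm).trans (sec_smul A1 j1 U m (M1.one U))
  have hmem : tsec e jE U - (AE.str.app (op U)).hom (aSec u U) ∈ bIdeal e jE u U := Ideal.subset_span rfl
  have w : ψ.hom.app (op U) ≫ CommRingCat.ofHom (Ideal.Quotient.mk (bIdeal e jE u U)) =
      ε.hom.app (op U) ≫ CommRingCat.ofHom ((Ideal.Quotient.mk (bIdeal e jE u U)).comp (AE.str.app (op U)).hom) := by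
    refine CommRingCat.hom_ext (hom_ext_of_sym (j := sec A1 j1 U) (hj := sec_smul A1 j1 U)
      (SymAlg11.bijective_liftOn hq hA1 U hU) (fun r => ?_) fun m => ?_)
    · show Ideal.Quotient.mk _ ((ψ.hom.app (op U)).hom _) =
        Ideal.Quotient.mk _ ((AE.str.app (op U)).hom ((ε.hom.app (op U)).hom _))
      rw [hψs, hεs]
    · show Ideal.Quotient.mk _ ((ψ.hom.app (op U)).hom _) =
        Ideal.Quotient.mk _ ((AE.str.app (op U)).hom ((ε.hom.app (op U)).hom _))
      rw [hgen m, map_mul (ψ.hom.app (op U)).hom, map_mul (ε.hom.app (op U)).hom, hψs, hεs,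
        psi_gen e jE j1 ψ hψ, eps_gen j1 u ε hε, map_mul (AE.str.app (op U)).hom, map_mul, map_mul,
        Ideal.Quotient.eq.2 hmem]
  refine IsPushout.of_isColimit (PushoutCocone.IsColimit.mk w (fun s => ?_) (fun s => ?_) (fun s => ?_)
    fun s m h1 h2 => ?_)
  · refine CommRingCat.ofHom (Ideal.Quotient.lift (bIdeal e jE u U) s.inl.hom fun x hx => ?_)
    obtain ⟨c, rfl⟩ := Ideal.mem_span_singleton'.1 hx
    have hc : ∀ z, s.inl.hom ((ψ.hom.app (op U)).hom z) = s.inr.hom ((ε.hom.app (op U)).hom z) := fun z =>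
      ConcreteCategory.congr_hom s.condition z
    have h1 : s.inl.hom (tsec e jE U) = s.inr.hom (aSec u U) := by
      rw [← psi_gen e jE j1 ψ hψ, hc, eps_gen j1 u ε hε]
    have h2 : s.inl.hom ((AE.str.app (op U)).hom (aSec u U)) = s.inr.hom (aSec u U) := by
      rw [← hψs, hc, hεs]
    rw [map_mul, map_sub, h1, h2, sub_self, mul_zero]
  · exact CommRingCat.hom_ext (RingHom.ext fun x => rfl)
  · refine CommRingCat.hom_ext (RingHom.ext fun r => ?_)
    show s.inl.hom ((AE.str.app (op U)).hom r) = s.inr.hom r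
    conv_lhs => rw [← hψs r]
    conv_rhs => rw [← hεs r]
    exact ConcreteCategory.congr_hom s.condition _
  · refine CommRingCat.hom_ext (RingHom.ext fun x => ?_)
    obtain ⟨x, rfl⟩ := Ideal.Quotient.mk_surjective x
    exact ConcreteCategory.congr_hom h1 x

include hA1 hψ hε in
theorem exists_bChart {U : X.Opens} (hU : IsAffineOpen U) :
    ∃ k : Spec (CommRingCat.of (AE.presheaf.obj (op U) ⧸ bIdeal e jE u U)) ⟶
        pullback (RelSpec.QCAlg.specMap ψ) (RelSpec.QCAlg.specMap ε),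
      IsOpenImmersion k ∧
        k ≫ pullback.fst _ _ = Spec.map (CommRingCat.ofHom (Ideal.Quotient.mk (bIdeal e jE u U))) ≫ AE.ι U hU ∧
        k ≫ pullback.snd _ _ =
          Spec.map (CommRingCat.ofHom ((Ideal.Quotient.mk (bIdeal e jE u U)).comp (AE.str.app (op U)).hom)) ≫
            (RelSpec.QCAlg.unit X).ι U hU ∧
        Set.range k = pullback.snd (RelSpec.QCAlg.specMap ψ) (RelSpec.QCAlg.specMap ε) ⁻¹'
          Set.range ((RelSpec.QCAlg.unit X).ι U hU) := by
  have H1 := isPullback_SpecMap_of_isPushout _ _ _ _ (isPushout_bRing e jE j1 hA1 ψ hψ u ε hε hU)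
  have H := H1.paste_horiz (SymAlg11.isPullback_ι_specMap ψ U hU)
  rw [← RelSpec.QCAlg.ι_specMap U hU ε] at H
  have t := IsPullback.of_hasPullback (RelSpec.QCAlg.specMap ψ) (RelSpec.QCAlg.specMap ε)
  have H2 := IsPullback.of_right' H t
  refine ⟨_, MorphismProperty.of_isPullback (P := @IsOpenImmersion) H2.flip inferInstance,
    t.lift_fst _ _ _, t.lift_snd _ _ _, ?_⟩
  rw [← H2.isoPullback_hom_fst, Scheme.Hom.comp_base, TopCat.coe_comp, Set.range_comp,
    Set.range_eq_univ.2 H2.isoPullback.hom.surjective, Set.image_univ, Scheme.Pullback.range_fst]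

theorem offRho_isLocalization {U : X.Opens} (hU : IsAffineOpen U) :
    letI := ((offRho e jE).hom.app (op U)).hom.toAlgebra
    IsLocalization.Away (tsec e jE U) ((offAlg e jE).presheaf.obj (op U)) := by
  letI alg1 := ((offRho e jE).hom.app (op U)).hom.toAlgebra
  let r : Γ(AE.spec, AE.π ⁻¹ᵁ U) :=
    (AE.spec.presheaf.map (homOfLE (le_top : AE.π ⁻¹ᵁ U ≤ ⊤)).op).hom (tGlob e jE)
  let V : AE.spec.Opens := (off e jE).ι ''ᵁ (offπ e jE ⁻¹ᵁ U)
  have hV : V = AE.spec.basicOpen r := by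
    show (off e jE).ι ''ᵁ ((off e jE).ι ⁻¹ᵁ (AE.π ⁻¹ᵁ U)) = _
    rw [Scheme.Hom.image_preimage_eq_opensRange_inf, Scheme.Opens.opensRange_ι, Scheme.basicOpen_res, inf_comm]
  have hle : V ≤ AE.π ⁻¹ᵁ U := hV.le.trans (AE.spec.basicOpen_le r)
  have h1 := (hU.preimage AE.π).isLocalization_of_eq_basicOpen r (homOfLE hle) hV
  letI alg2 : Algebra Γ(AE.spec, AE.π ⁻¹ᵁ U) ((offAlg e jE).presheaf.obj (op U)) :=
    (AE.spec.presheaf.map (homOfLE hle).op).hom.toAlgebra
  haveI : IsLocalization (Submonoid.powers r) ((offAlg e jE).presheaf.obj (op U)) := h1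
  let ginv : AE.presheaf.obj (op U) →+* Γ(AE.spec, AE.π ⁻¹ᵁ U) := ((RelSpecB.gammaInv AE).app (op U)).hom
  have hg : Function.Bijective ginv := by
    have hl : ∀ a, (AE.gammaMap.app (op U)).hom (ginv a) = a := fun a =>
      ConcreteCategory.congr_hom (NatTrans.congr_app (RelSpecB.gammaInv_gammaMap AE) (op U)) a
    exact ⟨fun a b hab => by rw [← hl a, ← hl b, hab], fun y => ⟨(AE.gammaMap.app (op U)).hom y,
      (gamma_injective AE U).1 (hl _)⟩⟩
  refine IsLocalization.of_ringEquiv_left (M₁ := Submonoid.powers r) (RingEquiv.ofBijective ginv hg) ?_ fun a => ?_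
  · rw [Submonoid.map_powers]
    exact congrArg Submonoid.powers (gammaInv_tsec e jE U)
  · show ((offRho e jE).hom.app (op U)).hom a = (AE.spec.presheaf.map (homOfLE hle).op).hom (ginv a)
    rw [offRho_app, Scheme.Opens.ι_appLE]
    rfl

end Groth.Agent.Cyc26B
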