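import Groth.Agent.Lib.Cyc26B.Local
import Groth.Agent.Lib.Cyc26.AffSpace

/-! # The scaling map is flat, surjective and of relative dimension one -/

set_option autoImplicit false
universe u

set_option backward.isDefEq.respectTransparency false
set_option backward.isDefEq.respectTransparency.types false

open CategoryTheory AlgebraicGeometry Opposite Limits TopologicalSpace

noncomputable section

namespace Groth.Agent.Cyc26B

open Groth.Agent.Cyc26

theorem affFibres_C (B : Type u) [CommRing B] :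
    AffFibres (Spec.map (CommRingCat.ofHom (MvPolynomial.C : B →+* MvPolynomial (Fin 1) B))) 1 := fun p =>
  ⟨p.asIdeal.ResidueField, inferInstance,
    ⟨Arrow.leftFunc.mapIso (Spec.fiberToSpecResidueFieldIso B (MvPolynomial (Fin 1) B) p) ≪≫
      Scheme.Spec.mapIso (MvPolynomial.algebraTensorAlgEquiv B p.asIdeal.ResidueField
        (σ := Fin 1)).toRingEquiv.toCommRingCatIso.symm.op⟩⟩

/-- A chart `Spec L ⟶ Spec B[T] ⟶ Spec B`, with `L` a localisation, has flat fibres of dimension one. -/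
theorem laurent_chart {B G : Type u} [CommRing B] [CommRing G] (g0 : B →+* G)
    (e : Localization.Away (MvPolynomial.X 0 : MvPolynomial (Fin 1) B) ≃+* G)
    (he : ∀ b, e (algebraMap (MvPolynomial (Fin 1) B) _ (MvPolynomial.C b)) = g0 b) :
    Flat (Spec.map (CommRingCat.ofHom g0)) ∧ LocallyOfFiniteType (Spec.map (CommRingCat.ofHom g0)) ∧
      ∀ [LocallyOfFiniteType (Spec.map (CommRingCat.ofHom g0))] (x : ↥(Spec (CommRingCat.of G))),
        (∀ w, w ⤳ x → Spec.map (CommRingCat.ofHom g0) w = Spec.map (CommRingCat.ofHom g0) x → w = x) →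
        FibDim14.rd (Spec.map (CommRingCat.ofHom g0)) x = 1 := by
  let Pm := MvPolynomial (Fin 1) B
  let loc : Pm →+* Localization.Away (MvPolynomial.X 0 : Pm) := algebraMap _ _
  let p : Spec (CommRingCat.of Pm) ⟶ Spec (CommRingCat.of B) := Spec.map (CommRingCat.ofHom MvPolynomial.C)
  let i : Spec (CommRingCat.of G) ⟶ Spec (CommRingCat.of Pm) :=
    Spec.map e.toCommRingCatIso.hom ≫ Spec.map (CommRingCat.ofHom loc)
  haveI : IsOpenImmersion (Spec.map (CommRingCat.ofHom loc)) :=
    Scheme.isOpenImmersion_SpecMap_localizationAway (R := CommRingCat.of Pm) (MvPolynomial.X 0)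
  haveI : IsOpenImmersion i := inferInstance
  haveI : Flat p := (HasRingHomProperty.Spec_iff (P := @Flat)).2
    (by rw [CommRingCat.hom_ofHom, ← MvPolynomial.algebraMap_eq, RingHom.flat_algebraMap_iff]; infer_instance)
  haveI : LocallyOfFiniteType p := (HasRingHomProperty.Spec_iff (P := @LocallyOfFiniteType)).2
    (by rw [CommRingCat.hom_ofHom, ← MvPolynomial.algebraMap_eq]; exact RingHom.finiteType_algebraMap.2 inferInstance)
  have hfac : Spec.map (CommRingCat.ofHom g0) = i ≫ p := by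
    rw [Category.assoc, ← Spec.map_comp, ← Spec.map_comp]
    congr 1
    exact CommRingCat.hom_ext (RingHom.ext fun b => (he b).symm)
  rw [hfac]
  refine ⟨inferInstance, inferInstance, fun x hx => ?_⟩
  rw [FibDim14.rd_comp i p x, FibDim14.rd_of_surjectiveOnStalks i, add_zero]
  refine UCat26.rd_eq_of_hasRelDim p (affFibres_C B).hasRelDim fun w hw hpw => ?_
  obtain ⟨w', rfl⟩ : w ∈ Set.range i := hw.mem_open i.isOpenEmbedding.isOpen_range ⟨x, rfl⟩
  rw [hx w' (i.isOpenEmbedding.isInducing.specializes_iff.1 hw) hpw]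

variable {X : Scheme.{u}} {S : ShortComplex X.Modules} (e : S.X₁ ≅ Coh.structureModule X) {AE : RelSpec.QCAlg X}
  (jE : S.X₂ ⟶ AE.toModule) {A1 : RelSpec.QCAlg X} (j1 : Coh.structureModule X ⟶ A1.toModule)
  (hA1 : RelSpec.IsSymAlg (Coh.structureModule X) A1 j1)
  (ψ : A1 ⟶ AE) (hψ : j1 ≫ RelSpec.QCAlg.Hom.toModuleMap ψ = e.inv ≫ S.f ≫ jE)
  (u : Coh.structureModule X ⟶ (RelSpec.QCAlg.unit X).toModule) [IsIso u]
  (ε : A1 ⟶ RelSpec.QCAlg.unit X) (hε : j1 ≫ RelSpec.QCAlg.Hom.toModuleMap ε = u)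
  (hAE : RelSpec.IsSymAlg S.X₂ AE jE) (hqE : Coh.IsQCoh S.X₂)

include hA1 hψ hε hAE hqE in
/-- The scaling map from the complement of the subbundle to the affine bundle. -/
theorem exists_scaleMap [LocallyOfFiniteType AE.π] :
    ∃ (r : (off e jE : Scheme.{u}) ⟶ pullback (RelSpec.QCAlg.specMap ψ) (RelSpec.QCAlg.specMap ε))
      (_ : LocallyOfFiniteType r),
      r ≫ pullback.fst _ _ ≫ AE.π = offπ e jE ∧ Flat r ∧ Function.Surjective r ∧
        ∀ z, (∀ w, r w = r z → w ⤳ z → w = z) → FibDim14.rd r z = 1 := by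
  set q := offπ e jE with hq
  obtain ⟨τ, hτ⟩ := exists_off_inverse e jE
  obtain ⟨ω, hω⟩ := exists_scaleAlg e jE u hAE τ
  let cu : RelSpec.QCAlg.unit X ⟶ offAlg e jE := ⟨q.c, Category.id_comp _⟩
  have hres : ∀ U : X.Opens, ((offRho e jE).hom.app (op U)).hom (tsec e jE U) *
      ((offAlg e jE).presheaf.map (homOfLE (le_top : U ≤ ⊤)).op).hom τ = 1 := fun U => by
    have h1 := congrArg ((offAlg e jE).presheaf.map (homOfLE (le_top : U ≤ ⊤)).op).hom hτ
    rw [map_mul, map_one] at h1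
    rw [← h1]
    congr 1
    rw [← tsec_res e jE (le_top : U ≤ ⊤)]
    exact ConcreteCategory.congr_hom ((offRho e jE).hom.naturality (homOfLE (le_top : U ≤ ⊤)).op) _
  have hωt : ∀ U : X.Opens, (ω.hom.app (op U)).hom (tsec e jE U) = ((offAlg e jE).str.app (op U)).hom (aSec u U) := by
    intro U
    refine (hω U (t0 e U)).trans ?_
    rw [mul_assoc, mul_comm (((offAlg e jE).presheaf.map _).hom τ)]
    show _ * (((offRho e jE).hom.app (op U)).hom (tsec e jE U) * _) = _
    rw [hres, mul_one]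
  have halg : ψ ≫ ω = ε ≫ cu := by
    refine (hA1 (offAlg e jE) (j1 ≫ RelSpec.QCAlg.Hom.toModuleMap (ψ ≫ ω))).unique rfl
      (M1.unit_hom_ext ?_)
    show (cu.hom.app (op ⊤)).hom ((ε.hom.app (op ⊤)).hom (sec A1 j1 ⊤ (M1.one ⊤))) =
      (ω.hom.app (op ⊤)).hom ((ψ.hom.app (op ⊤)).hom (sec A1 j1 ⊤ (M1.one ⊤)))
    rw [eps_gen j1 u ε hε, psi_gen e jE j1 ψ hψ, hωt]
    rfl
  let r0 := QCGen12.lift AE q ω.hom
  let s2 := QCGen12.lift (RelSpec.QCAlg.unit X) q q.c
  have hw : r0 ≫ RelSpec.QCAlg.specMap ψ = s2 ≫ RelSpec.QCAlg.specMap ε := by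
    rw [lift_natural ψ q ω.hom, lift_natural ε q q.c]
    exact congrArg (QCGen12.lift A1 q) (congrArg RelSpec.QCAlg.Hom.hom halg)
  let r := pullback.lift r0 s2 hw
  have hr : r ≫ pullback.fst _ _ ≫ AE.π = q := by
    rw [pullback.lift_fst_assoc]
    exact QCGen12.lift_π AE q ω.hom ω.comm
  haveI : LocallyOfFiniteType (r ≫ (pullback.fst _ _ ≫ AE.π)) := by rw [hr]; infer_instance
  haveI hlft : LocallyOfFiniteType r := locallyOfFiniteType_of_comp r (pullback.fst _ _ ≫ AE.π)
  refine ⟨r, hlft, hr, ?_⟩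
  have hstep : ∀ (U : X.Opens) (hU : IsAffineOpen U),
      ∃ (g0 : (AE.presheaf.obj (op U) ⧸ bIdeal e jE u U) →+* (offAlg e jE).presheaf.obj (op U))
        (k : Spec (CommRingCat.of (AE.presheaf.obj (op U) ⧸ bIdeal e jE u U)) ⟶
          pullback (RelSpec.QCAlg.specMap ψ) (RelSpec.QCAlg.specMap ε)),
        IsOpenImmersion k ∧ (hU.preimage q).fromSpec ≫ r = Spec.map (CommRingCat.ofHom g0) ≫ k ∧
        Function.Surjective (Spec.map (CommRingCat.ofHom g0)) ∧
        Set.range k = pullback.snd (RelSpec.QCAlg.specMap ψ) (RelSpec.QCAlg.specMap ε) ⁻¹'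
          Set.range ((RelSpec.QCAlg.unit X).ι U hU) ∧
        Flat (Spec.map (CommRingCat.ofHom g0)) ∧ LocallyOfFiniteType (Spec.map (CommRingCat.ofHom g0)) ∧
        ∀ [LocallyOfFiniteType (Spec.map (CommRingCat.ofHom g0))] (x : ↥(Spec ((offAlg e jE).presheaf.obj (op U)))),
          (∀ w, w ⤳ x → Spec.map (CommRingCat.ofHom g0) w = Spec.map (CommRingCat.ofHom g0) x → w = x) →
          FibDim14.rd (Spec.map (CommRingCat.ofHom g0)) x = 1 := by
    intro U hU
    obtain ⟨k, hk, hk1, hk2, hk3⟩ := exists_bChart e jE j1 hA1 ψ hψ u ε hε hU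
    obtain ⟨g0, el, s, hg0, hel, hs⟩ := exists_laurent (str := (AE.str.app (op U)).hom) (j := sec AE jE U)
      (hj := sec_smul AE jE U) (SymAlg11.bijective_liftOn hqE hAE U hU) (t0 e U) (aSec_isUnit u U).unit
      ((offRho e jE).hom.app (op U)).hom (offRho_isLocalization e jE hU)
      (((offAlg e jE).presheaf.map (homOfLE (le_top : U ≤ ⊤)).op).hom τ) (hres U)
      (ω.hom.app (op U)).hom
      (fun a => (app_str (φ := ω) U a).trans (app_str (φ := offRho e jE) U a).symm)
      (fun m => (hω U m).trans (by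
        congr 2
        exact (app_str (φ := offRho e jE) U (aSec u U)).symm))
    obtain ⟨hf1, hf2, hf3⟩ := laurent_chart g0 el hel
    refine ⟨g0, k, hk, ?_, fun b => ⟨Spec.map (CommRingCat.ofHom s) b, ?_⟩, hk3, hf1, hf2, hf3⟩
    · refine pullback.hom_ext ?_ ?_
      · rw [Category.assoc, Category.assoc, pullback.lift_fst, hk1, QCGen12.fromSpec_lift AE q ω.hom U hU,
          ← Spec.map_comp_assoc]
        congr 2
        exact CommRingCat.hom_ext (RingHom.ext fun x => (hg0 x).symm)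
      · rw [Category.assoc, Category.assoc, pullback.lift_snd, hk2, QCGen12.fromSpec_lift (RelSpec.QCAlg.unit X) q q.c U hU,
          ← Spec.map_comp_assoc]
        congr 2
        refine CommRingCat.hom_ext (RingHom.ext fun x => ?_)
        exact ((app_str (φ := ω) U x).symm.trans (hg0 _).symm)
    · have : Spec.map (CommRingCat.ofHom s) ≫ Spec.map (CommRingCat.ofHom g0) = 𝟙 _ := by
        rw [← Spec.map_comp, ← Spec.map_id]
        congr 1
        exact CommRingCat.hom_ext (RingHom.ext hs)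
      rw [← Scheme.Hom.comp_apply, this]
      rfl
  choose g0 k hk hkr hsurj hrange hflat hfin hrd using hstep
  refine ⟨?_, fun b => ?_, fun z hz => ?_⟩
  · let 𝒰 : (off e jE : Scheme.{u}).OpenCover := Scheme.Cover.mkOfCovers X.affineOpens
      (fun U => Spec ((offAlg e jE).presheaf.obj (op U.1))) (fun U => (U.2.preimage q).fromSpec) fun z => by
        obtain ⟨U, hU, hzU, -⟩ := exists_isAffineOpen_mem_and_subset (U := (⊤ : X.Opens)) (x := q z) trivial
        exact ⟨⟨U, hU⟩, ((hU.preimage q).range_fromSpec).ge hzU⟩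
    refine IsZariskiLocalAtSource.of_openCover (P := @Flat) 𝒰 fun U => ?_
    show Flat ((U.2.preimage q).fromSpec ≫ r)
    rw [hkr U.1 U.2]
    haveI := hflat U.1 U.2
    haveI := hk U.1 U.2
    infer_instance
  · obtain ⟨U, hU, hbU, -⟩ := exists_isAffineOpen_mem_and_subset (U := (⊤ : X.Opens))
      (x := (pullback.fst (RelSpec.QCAlg.specMap ψ) (RelSpec.QCAlg.specMap ε) ≫ AE.π) b) trivial
    have hb : b ∈ Set.range (k U hU) := by
      rw [hrange]
      show (pullback.snd (RelSpec.QCAlg.specMap ψ) (RelSpec.QCAlg.specMap ε)) b ∈ Set.range ((RelSpec.QCAlg.unit X).ι U hU)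
      have h1 : pullback.snd (RelSpec.QCAlg.specMap ψ) (RelSpec.QCAlg.specMap ε) b ∈ (RelSpec.QCAlg.unit X).π ⁻¹ᵁ U := by
        show (RelSpec.QCAlg.unit X).π _ ∈ U
        rw [← RelSpec.QCAlg.specMap_π ε, ← Scheme.Hom.comp_apply, ← Category.assoc, ← pullback.condition,
          Category.assoc, RelSpec.QCAlg.specMap_π ψ]
        exact hbU
      rw [(RelSpec.QCAlg.unit X).π_preimage U hU] at h1
      exact h1
    obtain ⟨x, rfl⟩ := hb
    obtain ⟨y, rfl⟩ := hsurj U hU x
    exact ⟨(hU.preimage q).fromSpec y, (congrArg (fun f => f y) (hkr U hU) :)⟩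
  · obtain ⟨U, hU, hzU, -⟩ := exists_isAffineOpen_mem_and_subset (U := (⊤ : X.Opens)) (x := q z) trivial
    obtain ⟨y, rfl⟩ := ((hU.preimage q).range_fromSpec).ge hzU
    haveI := hk U hU
    haveI := hfin U hU
    haveI : LocallyOfFiniteType ((hU.preimage q).fromSpec ≫ r) := inferInstance
    have h1 : FibDim14.rd ((hU.preimage q).fromSpec ≫ r) y = 1 := by
      have h2 := hrd U hU y fun w hw hgw => (hU.preimage q).fromSpec.isOpenEmbedding.injective (hz _
        ((congrArg (fun f => f w) (hkr U hU)).trans ((congrArg (k U hU) hgw).trans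
          (congrArg (fun f => f y) (hkr U hU)).symm)) (hw.map (hU.preimage q).fromSpec.continuous))
      simp only [hkr U hU]
      refine (FibDim14.rd_comp _ (k U hU) y).trans ?_
      rw [FibDim14.rd_of_surjectiveOnStalks (k U hU), zero_add]
      exact h2
    rwa [FibDim14.rd_comp, FibDim14.rd_of_surjectiveOnStalks (hU.preimage q).fromSpec, add_zero] at h1

end Groth.Agent.Cyc26B
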