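import Groth.Agent.Lib.Cyc26B.Incl

/-! # The scaling map from the complement of the subbundle to the affine bundle -/

set_option autoImplicit false
universe u

set_option backward.isDefEq.respectTransparency false
set_option backward.isDefEq.respectTransparency.types false

open CategoryTheory AlgebraicGeometry Opposite Limits TopologicalSpace

noncomputable section

namespace Groth.Agent.Cyc26B

variable {X : Scheme.{u}}

theorem toModuleMap_app {A B : RelSpec.QCAlg X} (f : A ⟶ B) (U : X.Opens) (m : A.presheaf.obj (op U)) :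
    (RelSpec.QCAlg.Hom.toModuleMap f).app U m = (f.hom.app (op U)).hom m := rfl

/-- Multiplication by a global section of an algebra. -/
def mulEnd (B : RelSpec.QCAlg X) (w : B.presheaf.obj (op (⊤ : X.Opens))) : B.toModule ⟶ B.toModule :=
  ⟨letI := B.moduleSect
   PresheafOfModules.homMk
    { app := fun U => AddCommGrpCat.ofHom
        (AddMonoidHom.mulLeft ((B.presheaf.map (homOfLE (le_top : U.unop ≤ ⊤)).op).hom w))
      naturality := fun U V i => by
        refine AddCommGrpCat.hom_ext (AddMonoidHom.ext fun (m : B.presheaf.obj U) => ?_)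
        show (B.presheaf.map _).hom w * (B.presheaf.map i).hom m = (B.presheaf.map i).hom ((B.presheaf.map _).hom w * m)
        rw [map_mul, ← RingHom.comp_apply (B.presheaf.map i).hom, ← CommRingCat.hom_comp, ← Functor.map_comp]
        rfl }
    fun U r (m : B.presheaf.obj U) =>
      mul_left_comm ((B.presheaf.map (homOfLE (le_top : U.unop ≤ ⊤)).op).hom w) ((B.str.app U).hom r) m⟩

theorem mulEnd_app (B : RelSpec.QCAlg X) (w : B.presheaf.obj (op (⊤ : X.Opens))) (U : X.Opens)
    (m : B.presheaf.obj (op U)) :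
    (mulEnd B w).app U m = (B.presheaf.map (homOfLE (le_top : U ≤ ⊤)).op).hom w * m := rfl

variable {S : ShortComplex X.Modules} (e : S.X₁ ≅ Coh.structureModule X) {AE : RelSpec.QCAlg X}
  (jE : S.X₂ ⟶ AE.toModule)

/-- The complement of the subbundle. -/
abbrev off : AE.spec.Opens := AE.spec.basicOpen (tGlob e jE)

/-- Its projection. -/
abbrev offπ : (off e jE : Scheme.{u}) ⟶ X := (off e jE).ι ≫ AE.π

/-- The direct image algebra of the complement. -/
abbrev offAlg : RelSpec.QCAlg X := RelSpec.QCAlg.directImage (offπ e jE)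

/-- Restriction to the complement. -/
def offRho : AE ⟶ offAlg e jE :=
  ⟨SpecLim13.omega AE (off e jE).ι rfl, SpecLim13.str_omega _ rfl⟩

theorem offRho_app (U : X.Opens) (a : AE.presheaf.obj (op U)) :
    ((offRho e jE).hom.app (op U)).hom a =
      ((off e jE).ι.appLE (AE.π ⁻¹ᵁ U) (offπ e jE ⁻¹ᵁ U) le_rfl).hom
        (((RelSpecB.gammaInv AE).app (op U)).hom a) := rfl

theorem gammaInv_tsec (U : X.Opens) :
    ((RelSpecB.gammaInv AE).app (op U)).hom (tsec e jE U) =
      (AE.spec.presheaf.map (homOfLE (le_top : AE.π ⁻¹ᵁ U ≤ ⊤)).op).hom (tGlob e jE) := by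
  apply (gamma_injective AE U).1
  rw [gamma_res_tGlob]
  exact ConcreteCategory.congr_hom (NatTrans.congr_app (RelSpecB.gammaInv_gammaMap AE) (op U)) _

theorem exists_off_inverse :
    ∃ τ : (offAlg e jE).presheaf.obj (op (⊤ : X.Opens)),
      ((offRho e jE).hom.app (op ⊤)).hom (tsec e jE ⊤) * τ = 1 := by
  have h : IsUnit (((offRho e jE).hom.app (op ⊤)).hom (tsec e jE ⊤)) := by
    rw [offRho_app]
    have : ((RelSpecB.gammaInv AE).app (op ⊤)).hom (tsec e jE ⊤) = tGlob e jE := rfl
    rw [this]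
    refine RingedSpace.isUnit_of_isUnit_germ (off e jE : Scheme.{u}).toRingedSpace _ _ fun x hx => ?_
    have h1 : IsUnit ((AE.spec.presheaf.germ ⊤ ((off e jE).ι x) trivial).hom (tGlob e jE)) :=
      (AE.spec.mem_basicOpen (tGlob e jE) _ trivial).1 x.2
    have h2 := h1.map ((off e jE).ι.stalkMap x).hom
    convert h2 using 1
    rw [Scheme.Hom.appLE, CommRingCat.hom_comp, RingHom.comp_apply]
    refine (TopCat.Presheaf.germ_res_apply _ _ x _ _).trans ?_
    exact (Scheme.Hom.germ_stalkMap_apply (off e jE).ι ⊤ x trivial (tGlob e jE)).symm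
  exact ⟨_, h.mul_val_inv⟩

variable (u : Coh.structureModule X ⟶ (RelSpec.QCAlg.unit X).toModule)

/-- The level of the affine bundle. -/
def aSec (U : X.Opens) : Γ(X, U) := u.app U (M1.one U)

theorem aSec_res {U V : X.Opens} (h : V ≤ U) :
    (X.presheaf.map (homOfLE h).op).hom (aSec u U) = aSec u V := by
  show _ = u.app V (M1.one V)
  rw [← M1.mres_one h, M1.app_mres]
  rfl

theorem aSec_isUnit [IsIso u] (U : X.Opens) : IsUnit (aSec u U) := by
  let b : Γ(X, U) := (inv u).app U (1 : Γ(X, U))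
  refine IsUnit.of_mul_eq_one b ?_
  rw [mul_comm]
  have h1 : u.app U (b • M1.one U) = b * aSec u U := u.app_smul b (M1.one U)
  have h2 : b • M1.one U = (inv u).app U (1 : Γ(X, U)) := mul_one b
  rw [← h1, h2]
  show (inv u ≫ u).app U (1 : Γ(X, U)) = _
  rw [IsIso.inv_hom_id]
  rfl

/-- The scaling factor. -/
def offW (τ : (offAlg e jE).presheaf.obj (op (⊤ : X.Opens))) : (offAlg e jE).presheaf.obj (op (⊤ : X.Opens)) :=
  ((offAlg e jE).str.app (op ⊤)).hom (aSec u ⊤) * τ

variable (hAE : RelSpec.IsSymAlg S.X₂ AE jE)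

include hAE in
/-- The algebra map defining the scaling. -/
theorem exists_scaleAlg (τ : (offAlg e jE).presheaf.obj (op (⊤ : X.Opens))) :
    ∃ ω : AE ⟶ offAlg e jE, ∀ (U : X.Opens) (m : Γ(S.X₂, U)),
      (ω.hom.app (op U)).hom (sec AE jE U m) =
        ((offAlg e jE).str.app (op U)).hom (aSec u U) *
          ((offAlg e jE).presheaf.map (homOfLE (le_top : U ≤ ⊤)).op).hom τ *
          ((offRho e jE).hom.app (op U)).hom (sec AE jE U m) := by
  obtain ⟨ω, hω, -⟩ := hAE (offAlg e jE)
    (jE ≫ RelSpec.QCAlg.Hom.toModuleMap (offRho e jE) ≫ mulEnd (offAlg e jE) (offW e jE u τ))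
  refine ⟨ω, fun U m => ?_⟩
  refine (congrArg (fun g => Scheme.Modules.Hom.app g U m) hω).trans ?_
  show (mulEnd (offAlg e jE) (offW e jE u τ)).app U ((RelSpec.QCAlg.Hom.toModuleMap (offRho e jE)).app U (jE.app U m)) = _
  rw [mulEnd_app, offW, map_mul, toModuleMap_app]
  congr 2
  refine (ConcreteCategory.congr_hom ((offAlg e jE).str.naturality (homOfLE (le_top : U ≤ ⊤)).op) (aSec u ⊤)).symm.trans ?_
  exact congrArg ((offAlg e jE).str.app (op U)).hom (aSec_res u le_top)

end Groth.Agent.Cyc26B
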