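import Groth.Agent.Lib.SymAlg11.Sheaf
import Groth.Agent.Lib.ModM1.Coh
import Groth.Agent.Lib.ModM1.Local
import Mathlib.RingTheory.Ideal.Quotient.Operations

/-! # The map of symmetric algebras induced by a surjection with trivial kernel, on sections -/

set_option autoImplicit false
universe u

set_option backward.isDefEq.respectTransparency false
set_option backward.isDefEq.respectTransparency.types false

open CategoryTheory AlgebraicGeometry Opposite Limits

noncomputable section

namespace Groth.Agent.Cyc26B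

variable {X : Scheme.{u}}

/-- A module map into an algebra, on sections, with values in the ring of sections. -/
def sec (B : RelSpec.QCAlg X) {M : X.Modules} (g : M ⟶ B.toModule) (U : X.Opens) : Γ(M, U) →+ B.presheaf.obj (op U) :=
  AddMonoidHom.mk' (fun m => g.app U m) fun a b => map_add (g.app U).hom a b

theorem sec_smul (B : RelSpec.QCAlg X) {M : X.Modules} (g : M ⟶ B.toModule) (U : X.Opens) (r : Γ(X, U)) (m : Γ(M, U)) :
    sec B g U (r • m) = (B.str.app (op U)).hom r * sec B g U m :=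
  g.app_smul r m

theorem sec_comp (B : RelSpec.QCAlg X) {M N : X.Modules} (q : M ⟶ N) (g : N ⟶ B.toModule) (U : X.Opens) (m : Γ(M, U)) :
    sec B (q ≫ g) U m = sec B g U (q.app U m) := rfl

/-- A module map into the structure module, on sections, with values in functions. -/
def secO {M : X.Modules} (g : M ⟶ Coh.structureModule X) (U : X.Opens) : Γ(M, U) →+ Γ(X, U) :=
  AddMonoidHom.mk' (fun m => g.app U m) fun a b => map_add (g.app U).hom a b

variable {S : ShortComplex X.Modules} (e : S.X₁ ≅ Coh.structureModule X)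
  {AE AF : RelSpec.QCAlg X} (jE : S.X₂ ⟶ AE.toModule) {jF : S.X₃ ⟶ AF.toModule} {φ : AE ⟶ AF}

/-- The generator of the kernel. -/
def t0 (U : X.Opens) : Γ(S.X₂, U) := S.f.app U (e.inv.app U (M1.one U))

/-- Its image in the algebra. -/
def tsec (U : X.Opens) : AE.presheaf.obj (op U) := sec AE jE U (t0 e U)

theorem t0_res {U V : X.Opens} (h : V ≤ U) : M1.mres S.X₂ h (t0 e U) = t0 e V := by
  rw [t0, t0, ← M1.app_mres, ← M1.app_mres]
  congr 2
  exact map_one (X.presheaf.map (homOfLE h).op).hom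

theorem tsec_res {U V : X.Opens} (h : V ≤ U) :
    (AE.presheaf.map (homOfLE h).op).hom (tsec e jE U) = tsec e jE V := by
  show _ = jE.app V (t0 e V)
  rw [← t0_res e h, M1.app_mres]
  rfl

variable (hS : S.ShortExact)

include hS in
theorem exists_smul_t0 (U : X.Opens) (m : Γ(S.X₂, U)) (hm : S.g.app U m = 0) :
    ∃ r : Γ(X, U), m = r • t0 e U := by
  haveI := hS.mono_f
  obtain ⟨a, rfl⟩ := M1.sections_exact hS.exact U m hm
  refine ⟨secO e.hom U a, ?_⟩
  rw [t0, ← S.f.app_smul, ← e.inv.app_smul]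
  congr 1
  have h1 : e.inv.app U (e.hom.app U a) = a := by
    show (e.hom ≫ e.inv).app U a = a; rw [e.hom_inv_id]; rfl
  refine h1.symm.trans (congrArg _ ?_)
  exact (mul_one (secO e.hom U a)).symm

include hS in
theorem t0_smul_injective (U : X.Opens) (r : Γ(X, U)) (h : r • t0 e U = 0) : r = 0 := by
  haveI := hS.mono_f
  rw [t0, ← S.f.app_smul, ← e.inv.app_smul] at h
  have h1 : e.inv.app U (r • M1.one U) = 0 := M1.app_injective S.f U (h.trans (map_zero _).symm)
  have h2 : r • M1.one U = 0 := M1.app_injective e.inv U (h1.trans (map_zero _).symm)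
  exact (mul_one r).symm.trans h2

include hS in
theorem g_app_t0 (U : X.Opens) : S.g.app U (t0 e U) = 0 := by
  show (S.f ≫ S.g).app U _ = 0
  rw [S.zero]
  rfl

variable (hqE : Coh.IsQCoh S.X₂) (hqF : Coh.IsQCoh S.X₃)

include hS hqE hqF in
theorem g_surjective {U : X.Opens} (hU : IsAffineOpen U) : Function.Surjective (S.g.app U) :=
  haveI := hS.epi_g
  M1.app_surjective_affine_of_isQCoh hqE hqF S.g hU

variable (hφ : jE ≫ RelSpec.QCAlg.Hom.toModuleMap φ = S.g ≫ jF)

include hφ in
theorem app_sec (U : X.Opens) (m : Γ(S.X₂, U)) :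
    (φ.hom.app (op U)).hom (sec AE jE U m) = sec AF jF U (S.g.app U m) := by
  rw [← sec_comp AF S.g jF U m, ← hφ]
  rfl

theorem app_str (U : X.Opens) (r : Γ(X, U)) :
    (φ.hom.app (op U)).hom ((AE.str.app (op U)).hom r) = (AF.str.app (op U)).hom r :=
  ConcreteCategory.congr_hom (NatTrans.congr_app φ.comm (op U)) r

include hS hφ in
theorem app_tsec (U : X.Opens) : (φ.hom.app (op U)).hom (tsec e jE U) = 0 := by
  rw [tsec, app_sec jE hφ, g_app_t0 e hS]
  exact map_zero _

variable (hAE : RelSpec.IsSymAlg S.X₂ AE jE) (hAF : RelSpec.IsSymAlg S.X₃ AF jF)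

include hS hqE hqF hφ hAF in
theorem phi_surjective {U : X.Opens} (hU : IsAffineOpen U) :
    Function.Surjective (φ.hom.app (op U)).hom := by
  intro b
  obtain ⟨c, rfl⟩ := (SymAlg11.bijective_liftOn hqF hAF U hU).2 b
  show _ ∈ Set.range (φ.hom.app (op U)).hom
  change SymAlg11.liftOn AF jF U c ∈ ((φ.hom.app (op U)).hom.range : Subring _)
  induction c using SymmetricAlgebra.induction with
  | algebraMap r => exact ⟨_, (app_str U r).trans (SymAlg11.liftOn_algebraMap AF jF U r).symm⟩
  | ι x =>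
    obtain ⟨m, rfl⟩ := g_surjective hS hqE hqF hU x
    exact ⟨_, (app_sec jE hφ U m).trans (SymAlg11.liftOn_ι AF jF U _).symm⟩
  | mul a b ha hb => rw [map_mul]; exact mul_mem ha hb
  | add a b ha hb => rw [map_add]; exact add_mem ha hb

include hS hqE hqF hφ hAE hAF in
theorem ker_phi {U : X.Opens} (hU : IsAffineOpen U) :
    RingHom.ker (φ.hom.app (op U)).hom = Ideal.span {tsec e jE U} := by
  refine le_antisymm (fun a ha => ?_) (Ideal.span_le.2 (Set.singleton_subset_iff.2 (app_tsec e jE hS hφ U)))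
  let I := Ideal.span {tsec e jE U}
  let q : AE.presheaf.obj (op U) →+* _ ⧸ I := Ideal.Quotient.mk I
  let γ : SymAlg11.SymOn S.X₂ U →+* SymAlg11.SymOn S.X₃ U :=
    SymAlg11.symMap (RingHom.id Γ(X, U)) (S.g.app U).hom fun r m => S.g.app_smul r m
  let F0 : Γ(S.X₂, U) →+ (_ ⧸ I) := q.toAddMonoidHom.comp (sec AE jE U)
  let gU : Γ(S.X₂, U) →+ Γ(S.X₃, U) := (S.g.app U).hom
  have hF0 : gU.ker ≤ F0.ker := fun m hm => by
    obtain ⟨r, rfl⟩ := exists_smul_t0 e hS U m hm
    show q (sec AE jE U (r • t0 e U)) = 0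
    rw [sec_smul]
    exact Ideal.Quotient.eq_zero_iff_mem.2 (I.mul_mem_left _ (Ideal.subset_span rfl))
  let F : Γ(S.X₃, U) →+ (_ ⧸ I) := gU.liftOfSurjective (g_surjective hS hqE hqF hU) ⟨F0, hF0⟩
  have hFg : ∀ m, F (gU m) = F0 m := fun m =>
    AddMonoidHom.liftOfRightInverse_comp_apply _ _ _ ⟨F0, hF0⟩ m
  let χ : SymAlg11.SymOn S.X₃ U →+* (_ ⧸ I) :=
    SymAlg11.symLift (q.comp (AE.str.app (op U)).hom) F fun r x => by
      obtain ⟨m, rfl⟩ := g_surjective hS hqE hqF hU x
      rw [show r • S.g.app U m = gU (r • m) from (S.g.app_smul r m).symm, show S.g.app U m = gU m from rfl, hFg, hFg]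
      show q (sec AE jE U (r • m)) = q _ * q _
      rw [← map_mul, sec_smul]
  have key : χ.comp γ = q.comp (SymAlg11.liftOn AE jE U) := SymAlg11.symHom_ext
    (fun r => by simp [χ, γ, SymAlg11.symMap_algebraMap, SymAlg11.liftOn_algebraMap])
    (fun m => by
      simp only [RingHom.comp_apply, γ, SymAlg11.symMap_ι, χ, SymAlg11.symLift_ι, SymAlg11.liftOn_ι]
      exact hFg m)
  have keyF : (φ.hom.app (op U)).hom.comp (SymAlg11.liftOn AE jE U) = (SymAlg11.liftOn AF jF U).comp γ :=
    SymAlg11.symHom_ext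
      (fun r => by
        simp only [RingHom.comp_apply, γ, SymAlg11.symMap_algebraMap, SymAlg11.liftOn_algebraMap, RingHom.id_apply]
        exact app_str U r)
      (fun m => by
        simp only [RingHom.comp_apply, γ, SymAlg11.symMap_ι, SymAlg11.liftOn_ι]
        exact app_sec jE hφ U m)
  obtain ⟨b, rfl⟩ := (SymAlg11.bijective_liftOn hqE hAE U hU).2 a
  have h1 : γ b = 0 := (SymAlg11.bijective_liftOn hqF hAF U hU).1
    ((DFunLike.congr_fun keyF b).symm.trans (ha.trans (map_zero _).symm))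
  have h2 : q (SymAlg11.liftOn AE jE U b) = 0 := by
    rw [← RingHom.comp_apply, ← key, RingHom.comp_apply, h1, map_zero]
  exact Ideal.Quotient.eq_zero_iff_mem.1 h2

include hS hqE hqF hAE in
theorem exists_retraction {U : X.Opens} (hU : IsAffineOpen U) {κ : Type u}
    (b : Module.Basis κ Γ(X, U) Γ(S.X₃, U)) :
    ∃ r : AE.presheaf.obj (op U) →+* Γ(X, U),
      (∀ a, r ((AE.str.app (op U)).hom a) = a) ∧ r (tsec e jE U) = 1 := by
  let g : Γ(S.X₂, U) →ₗ[Γ(X, U)] Γ(S.X₃, U) :=
    { toFun := S.g.app U, map_add' := fun x y => map_add (S.g.app U).hom x y, map_smul' := S.g.app_smul }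
  let s : Γ(S.X₃, U) →ₗ[Γ(X, U)] Γ(S.X₂, U) :=
    b.constr Γ(X, U) fun i => Function.surjInv (g_surjective hS hqE hqF hU) (b i)
  have hgs : ∀ x, g (s x) = x := by
    have : g ∘ₗ s = LinearMap.id := b.ext fun i => by
      simp only [LinearMap.comp_apply, s, Module.Basis.constr_basis, LinearMap.id_apply]
      exact Function.surjInv_eq (g_surjective hS hqE hqF hU) (b i)
    exact fun x => LinearMap.congr_fun this x
  have hex : ∀ m, ∃ a : Γ(X, U), m - s (g m) = a • t0 e U := fun m => by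
    refine exists_smul_t0 e hS U _ ?_
    show g (m - s (g m)) = 0
    rw [map_sub, hgs, sub_self]
  choose c hc using hex
  have huniq : ∀ m a, m - s (g m) = a • t0 e U → c m = a := fun m a h => by
    refine sub_eq_zero.1 (t0_smul_injective e hS U _ ?_)
    rw [sub_smul, ← h, hc, sub_self]
  let cl : Γ(S.X₂, U) →+ Γ(X, U) := AddMonoidHom.mk' c fun m m' => huniq _ _ (by
    rw [add_smul, ← hc, ← hc, map_add, map_add]; abel)
  have hsmul : ∀ (a : Γ(X, U)) m, cl (a • m) = RingHom.id _ a * cl m := fun a m => huniq _ _ (by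
    show _ = (a * c m) • t0 e U
    rw [mul_smul, ← hc, map_smul, map_smul, smul_sub])
  obtain ⟨E⟩ : Nonempty (SymAlg11.SymOn S.X₂ U ≃+* AE.presheaf.obj (op U)) :=
    ⟨RingEquiv.ofBijective _ (SymAlg11.bijective_liftOn hqE hAE U hU)⟩
  let L := RingEquiv.ofBijective _ (SymAlg11.bijective_liftOn hqE hAE U hU)
  let r0 := SymAlg11.symLift (RingHom.id Γ(X, U)) cl hsmul
  refine ⟨r0.comp L.symm.toRingHom, fun a => ?_, ?_⟩
  · show r0 (L.symm _) = a
    rw [← SymAlg11.liftOn_algebraMap AE jE U a, show SymAlg11.liftOn AE jE U _ = L _ from rfl, L.symm_apply_apply]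
    exact SymAlg11.symLift_algebraMap _ _ _ a
  · show r0 (L.symm _) = 1
    rw [tsec, show sec AE jE U (t0 e U) = L (SymmetricAlgebra.ι _ _ (t0 e U)) from
      (SymAlg11.liftOn_ι AE jE U _).symm, L.symm_apply_apply]
    simp only [r0, SymAlg11.symLift_ι]
    refine huniq _ _ ?_
    rw [show g (t0 e U) = 0 from g_app_t0 e hS U, map_zero, sub_zero, one_smul]

end Groth.Agent.Cyc26B
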